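import Cfsg.Agent.Lib.J4Type.Eleven.Local.Extra
import Cfsg.Agent.Lib.J4Type.CoreP.Norm
import Cfsg.Agent.Lib.InvChar.GLTwoThreeRecog
import Cfsg.Agent.Lib.Invol.TwoGroups

/-!
A subgroup `GL(2, 3)` of the normaliser.
-/

set_option autoImplicit false
set_option linter.style.haveILetI false
set_option linter.unusedSectionVars false

namespace CfsgLib.J4Type.Eleven

open Subgroup CfsgLib.InvChar

namespace Setup

variable {G : Type*} [Group G] [Finite G] {z t : G} (D : Setup z t)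

theorem Q_invol {q : G} (hq : q ∈ D.pick.Q) (h2 : q * q = 1) : q = 1 ∨ q = z := by
  haveI : Fact (Nat.Prime 2) := ⟨Nat.prime_two⟩
  by_cases h1 : q = 1
  · exact Or.inl h1
  have hK := D.pick.K0_le (D.pick.Q_le hq)
  exact Or.inr (D.shape.unique q hK.2 (orderOf_eq_prime (by rw [pow_two]; exact h2) h1)
    (mem_cent.1 hK.1))

/-- Generators of the quaternion group. -/
theorem exists_quat : ∃ r q : G, r ∈ D.pick.Q ∧ q ∈ D.pick.Q ∧ orderOf r = 4 ∧ r * r = z ∧
    r * q ≠ q * r ∧ Nonempty (↥D.pick.Q ≃* QuaternionGroup 2) := by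
  haveI : Fact (Nat.Prime 2) := ⟨Nat.prime_two⟩
  set Q := D.pick.Q with hQ
  obtain ⟨a, ha, b, hb, hab⟩ := D.pick.comm
  have hz1 : z ≠ 1 := ne_one_of_orderOf D.env.ord_z (by norm_num)
  have hne : a * b ≠ b * a := fun h => hz1 (by rw [← hab, h]; group)
  have ha2 : a * a ≠ 1 := by
    intro h
    rcases D.Q_invol ha h with rfl | rfl
    · exact hne (by rw [one_mul, mul_one])
    · exact hne (mem_cent.1 (D.pick.K0_le (D.pick.Q_le hb)).1).symm
  have hb2 : b * b ≠ 1 := by
    intro h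
    rcases D.Q_invol hb h with rfl | rfl
    · exact hne (by rw [one_mul, mul_one])
    · exact hne (mem_cent.1 (D.pick.K0_le (D.pick.Q_le ha)).1)
  have hord : ∀ g ∈ Q, g * g ≠ 1 → (∃ w ∈ Q, g * w ≠ w * g) → orderOf g = 4 ∧ g * g = z := by
    rintro g hg hg2 ⟨w, hw, hgw⟩
    have hd := Subgroup.orderOf_dvd_natCard Q hg
    rw [D.pick.card_Q, show 8 = 2 ^ 3 by norm_num] at hd
    obtain ⟨i, hi, e⟩ := (Nat.dvd_prime_pow Nat.prime_two).1 hd
    have hi2 : ¬ i ≤ 1 := fun h => hg2 (by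
      rw [← pow_two, ← orderOf_dvd_iff_pow_eq_one, e]
      exact (pow_dvd_pow 2 h).trans (dvd_of_eq (pow_one 2)))
    have hi3 : i ≠ 3 := by
      rintro rfl
      have heq : zpowers g = Q := eq_of_le_of_card_ge (zpowers_le.2 hg)
        (by rw [Nat.card_zpowers, e, D.pick.card_Q]; norm_num)
      obtain ⟨j, rfl⟩ := mem_zpowers_iff.1 (heq.ge hw)
      exact hgw ((Commute.refl g).zpow_right j).eq
    have hi' : i = 2 := by omega
    rw [hi'] at e
    norm_num at e
    refine ⟨e, ?_⟩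
    rcases D.Q_invol (mul_mem hg hg) (by
      rw [show g * g * (g * g) = g ^ 4 by simp only [pow_succ, pow_zero, one_mul, mul_assoc], ← e,
        pow_orderOf_eq_one]) with h | h
    · exact absurd h hg2
    · exact h
  obtain ⟨hao, haz⟩ := hord a ha ha2 ⟨b, hb, hne⟩
  obtain ⟨-, hbz⟩ := hord b hb hb2 ⟨a, ha, hne.symm⟩
  have hnot : b ∉ zpowers a := fun h => hne (by
    obtain ⟨j, rfl⟩ := mem_zpowers_iff.1 h
    exact ((Commute.refl a).zpow_right j).eq)
  have hinv : b * a * b⁻¹ = a⁻¹ := by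
    have h1 : b * a * b⁻¹ * a⁻¹ = z := by
      calc b * a * b⁻¹ * a⁻¹ = (a * b * a⁻¹ * b⁻¹)⁻¹ := by group
        _ = z := by rw [hab, inv_eq_self_of_orderOf D.env.ord_z]
    refine eq_inv_of_mul_eq_one_left ?_
    calc b * a * b⁻¹ * a = b * a * b⁻¹ * a⁻¹ * (a * a) := by group
      _ = 1 := by rw [h1, haz, sq_eq_one_of_orderOf D.env.ord_z]
  refine ⟨a, b, ha, hb, hao, haz, hne, ?_⟩
  obtain ⟨e⟩ := CfsgLib.Invol.exists_mulEquiv_quaternion (n := 2) (r := a) (q := b) hao
    (by rw [hbz, pow_two, haz]) hinv hnot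
  have heq : Subgroup.closure ({a, b} : Set G) = Q := by
    have hle : Subgroup.closure ({a, b} : Set G) ≤ Q := by
      rw [Subgroup.closure_le]
      rintro g (rfl | rfl)
      exacts [ha, hb]
    refine eq_of_le_of_card_ge hle ?_
    rw [D.pick.card_Q, Nat.card_congr e.toEquiv, Nat.card_eq_fintype_card, QuaternionGroup.card]
  exact ⟨(MulEquiv.subgroupCongr heq.symm).trans e⟩

/-- An involution outside the centraliser of `x` and commuting with `z` commutes with no element
whose square is `z`. -/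
theorem no_commuting_root {u r : G} (hu : orderOf u = 2) (huN : u ∈ D.NX) (huC : u ∉ D.CX)
    (hr : r ∈ D.CX) (hrz : r * r = z) (hur : u * r = r * u) : False := by
  haveI : Fact (Nat.Prime 11) := ⟨by norm_num⟩
  set F := D.S ⊓ centralizer ({u} : Set G) with hF
  have hFc := D.card_fix_outer hu huN huC
  obtain ⟨⟨f, hf⟩, hfo⟩ := exists_prime_orderOf_dvd_card' (G := F) 11 (by rw [hFc])
  rw [Subgroup.orderOf_mk] at hfo
  have heq : zpowers f = F := eq_of_le_of_card_ge (zpowers_le.2 hf)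
    (by rw [Nat.card_zpowers, hfo, hFc])
  have hrf : r * f * r⁻¹ ∈ zpowers f := by
    refine heq.ge ⟨(mem_normalizer_iff.1 (D.shape.cent_le_norm hr) f).1 hf.1, mem_cent.2 ?_⟩
    calc r * f * r⁻¹ * u = r * f * (r⁻¹ * u * r) * r⁻¹ := by group
      _ = r * f * u * r⁻¹ := by rw [mul_assoc r⁻¹, hur, inv_mul_cancel_left]
      _ = r * (f * u) * r⁻¹ := by group
      _ = r * (u * f) * r⁻¹ := by rw [mem_cent.1 hf.2]
      _ = u * (r * f * r⁻¹) := by rw [← mul_assoc r u f, ← hur]; group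
  obtain ⟨k, hk⟩ := (isOfFinOrder_of_finite f).mem_powers_iff_mem_zpowers.2 hrf
  have hk1 : r * f * r⁻¹ = f ^ k := hk.symm
  have hk2 : z * f * z⁻¹ = f ^ (k * k) := by
    rw [← hrz, show r * r * f * (r * r)⁻¹ = r * (r * f * r⁻¹) * r⁻¹ by group, hk1, ← conj_pow, hk1,
      ← pow_mul]
  have hk4 : f ^ (k * k * (k * k)) = f := by
    rw [pow_mul, ← hk2, conj_pow, ← hk2]
    calc z * (z * f * z⁻¹) * z⁻¹ = (z * z) * f * (z * z)⁻¹ := by group
      _ = f := by rw [sq_eq_one_of_orderOf D.env.ord_z]; group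
  have hmod : k * k * (k * k) % 11 = 1 := by
    have := (pow_eq_pow_iff_modEq (x := f) (n := k * k * (k * k)) (m := 1)).1 (by rw [pow_one]; exact hk4)
    rw [hfo] at this
    exact this
  have hsq : k * k % 11 = 1 := by
    have h : ∀ j < 11, j * j * (j * j) % 11 = 1 → j * j % 11 = 1 := by decide
    have h' := h (k % 11) (Nat.mod_lt _ (by norm_num))
    simp only [Nat.mul_mod, Nat.mod_mod] at h' hmod ⊢
    exact h' hmod
  have hzf : z * f * z⁻¹ = f := by
    rw [hk2, ← pow_mod_orderOf, hfo, hsq, pow_one]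
  have hfX : f ∈ D.X := (D.shape.fix z (mem_cent_symm.1 D.pick.mem_x) D.env.ord_z).le
    ⟨hf.1, mem_cent.2 (mul_inv_eq_iff_eq_mul.1 hzf).symm⟩
  have h1 := D.inverts hu huN huC hfX
  rw [← mem_cent.1 hf.2, mul_inv_cancel_right] at h1
  have h2 : orderOf f ∣ 2 := orderOf_dvd_of_pow_eq_one (by
    rw [pow_two]; nth_rw 2 [h1]; exact mul_inv_cancel f)
  rw [hfo] at h2
  norm_num at h2

/-- The group `GL(2, 3)` in the normaliser. -/
theorem exists_GL (hne : ¬ ∀ a ∈ D.S, ∀ b ∈ D.S, a * b = b * a) :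
    ∃ K : Subgroup G, K ≤ D.NX ∧ Nonempty (↥K ≃* GL (Fin 2) (ZMod 3)) := by
  haveI : Fact (Nat.Prime 2) := ⟨Nat.prime_two⟩
  obtain ⟨u, huo, huN, huC, huz⟩ := D.exists_outer_z hne
  set K0 := D.pick.K0 with hK0
  set Q := D.pick.Q with hQ
  have hK0N : K0 ≤ D.NX := fun g hg => D.CX_le_NX (D.pick.K0_le hg).2
  have huzc : u ∈ centralizer ({z} : Set G) := mem_cent.2 huz
  have hzn : zpowers u ≤ normalizer (K0 : Set G) := zpowers_le.2 (D.pick.norm ⟨huzc, huN⟩).2
  set K := K0 ⊔ zpowers u with hK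
  have hKle : K ≤ centralizer ({z} : Set G) ⊓ D.NX := sup_le
    (fun g hg => ⟨(D.pick.K0_le hg).1, hK0N hg⟩) (zpowers_le.2 ⟨huzc, huN⟩)
  have hinf : K0 ⊓ zpowers u = ⊥ := by
    rw [eq_bot_iff]
    rintro g ⟨hgK, hgu⟩
    by_contra hg1
    have hgu' := eq_zpowers_of_mem Nat.prime_two huo hgu hg1
    exact huC (zpowers_le.1 (hgu'.ge.trans (zpowers_le.2 (D.pick.K0_le hgK).2)))
  have hKc : Nat.card K = 48 := by
    have h := CoreP.card_sup_inf hzn
    rw [hinf, Subgroup.card_bot, Nat.card_zpowers, huo, D.pick.card_K0, mul_one] at h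
    exact h
  have hQK : Q ≤ K := D.pick.Q_le.trans le_sup_left
  haveI : (Q.subgroupOf K).Normal := (normal_subgroupOf_iff_le_normalizer hQK).2
    (hKle.trans (D.pick.norm.trans inf_le_left))
  obtain ⟨r, q, hr, hq, hro, hrz, hrq, ⟨e⟩⟩ := D.exists_quat
  have hrC : r ∈ D.CX := (D.pick.K0_le (D.pick.Q_le hr)).2
  have hcent : centralizer ((Q.subgroupOf K : Subgroup K) : Set K) ≤ Q.subgroupOf K := by
    rintro ⟨g, hgK⟩ hg
    have hgQ : g ∈ centralizer (Q : Set G) := mem_centralizer_iff.2 fun v hv =>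
      congrArg Subtype.val (mem_centralizer_iff.1 hg ⟨v, hQK hv⟩ hv)
    -- the elements inside the centraliser of `x`
    have hsmall : ∀ v ∈ K, v ∈ D.CX → v ∈ K0 := by
      intro v hv hvC
      have hle : K0 ≤ K ⊓ D.CX := le_inf le_sup_left fun w hw => (D.pick.K0_le hw).2
      have heq : K0 = K ⊓ D.CX := by
        refine eq_of_le_of_card_ge hle ?_
        rw [D.pick.card_K0]
        obtain ⟨m, hm⟩ := card_dvd_of_le (inf_le_left : K ⊓ D.CX ≤ K)
        rw [hKc] at hm
        have hm2 : 2 ≤ m := by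
          by_contra hlt
          have hm1 : m = 1 := by
            rcases Nat.eq_zero_or_pos m with rfl | h
            · simp at hm
            · omega
          rw [hm1, mul_one] at hm
          have := eq_of_le_of_card_ge (inf_le_left : K ⊓ D.CX ≤ K) (by rw [hKc, hm])
          exact huC (this.ge ((le_sup_right : zpowers u ≤ K) (mem_zpowers u))).2
        nlinarith
      exact heq.ge ⟨hv, hvC⟩
    by_cases hgC : g ∈ D.CX
    · exact D.pick.cent_Q ⟨hsmall g hgK hgC, hgQ⟩
    exfalso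
    obtain ⟨hgz, hgN⟩ := hKle hgK
    have hgg : g * g ∈ K0 := by
      have hidx : (K0.subgroupOf K).index = 2 := by
        have h := Subgroup.card_mul_index (K0.subgroupOf K)
        rw [Nat.card_congr (subgroupOfEquivOfLe le_sup_left).toEquiv, D.pick.card_K0, hKc] at h
        omega
      exact Subgroup.mul_self_mem_of_index_two hidx (⟨g, hgK⟩ : K)
    have hggC : g * g ∈ centralizer (Q : Set G) := mul_mem hgQ hgQ
    have hggQ : g * g ∈ Q := D.pick.cent_Q ⟨hgg, hggC⟩
    have hw2 : (g * g) * (g * g) = 1 := by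
      have hcen : ∀ w : QuaternionGroup 2, (∀ v, v * w = w * v) → w * w = 1 := by decide
      have h1 : e ⟨g * g, hggQ⟩ * e ⟨g * g, hggQ⟩ = 1 := hcen _ fun v => by
        obtain ⟨v, rfl⟩ := e.surjective v
        rw [← map_mul, ← map_mul]
        exact congrArg e (Subtype.ext (mem_centralizer_iff.1 hggC v v.2))
      rw [← map_mul, MulEquiv.map_eq_one_iff] at h1
      exact congrArg Subtype.val h1
    have hgr : g * r = r * g := (mem_centralizer_iff.1 hgQ r hr).symm
    rcases D.Q_invol hggQ hw2 with h1 | h1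
    · refine D.no_commuting_root (u := g) (orderOf_eq_prime (by rw [pow_two]; exact h1) ?_) hgN hgC
        hrC hrz hgr
      exact fun h => hgC (h ▸ one_mem _)
    · have hne1 : g * r ∉ D.CX := fun h => hgC (by simpa using mul_mem h (inv_mem hrC))
      refine D.no_commuting_root (u := g * r) (orderOf_eq_prime ?_ ?_) (mul_mem hgN (D.CX_le_NX hrC))
        hne1 hrC hrz ?_
      · rw [pow_two]
        calc g * r * (g * r) = g * (r * g) * r := by group
          _ = (g * g) * (r * r) := by rw [← hgr]; group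
          _ = 1 := by rw [h1, hrz, sq_eq_one_of_orderOf D.env.ord_z]
      · exact fun h => hne1 (h ▸ one_mem _)
      · calc g * r * r = (r * g) * r := by rw [hgr]
          _ = r * (g * r) := by group
  refine ⟨K, hKle.trans inf_le_right, OctaRecog.equiv_gl hKc (Q.subgroupOf K)
    ((subgroupOfEquivOfLe hQK).trans e) hcent (t := ⟨u, (le_sup_right : zpowers u ≤ K) (mem_zpowers u)⟩)
    (Subtype.ext (sq_eq_one_of_orderOf huo)) fun h => huC ?_⟩
  exact (D.pick.K0_le (D.pick.Q_le h)).2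

end Setup

end CfsgLib.J4Type.Eleven
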