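import Cfsg.Agent.Lib.J4Type.Eleven.Local.Abelian
import Cfsg.Agent.Lib.J4Type.Eleven.Local.GL
import Cfsg.Agent.Lib.PLocal.LargeExtra

/-!
The two statements on the Sylow subgroup for the prime eleven, apart from the exclusion of the
abelian case.
-/

set_option autoImplicit false
set_option linter.style.haveILetI false
set_option linter.unusedSectionVars false

namespace CfsgLib.J4Type.Eleven

open Subgroup CfsgLib.J4Type.BigPrimes

variable {G : Type*} [Group G] [Finite G] {z t : G}

/-- The conclusions for a group without abelian data. -/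
theorem structure_of (E : Env z t) (k : Pick z) (hno : ∀ u : G, AbData z u → False) :
    (∀ U : Sylow 11 G,
      Cfsg.IsExtraspecial 11 ↥(U : Subgroup G) ∧ Nat.card ↥(U : Subgroup G) = 11 ^ 3 ∧
      Monoid.exponent ↥(U : Subgroup G) = 11 ∧
      Nat.card ↥(normalizer ((U : Subgroup G) : Set G)) = 2 ^ 4 * 3 * 5 * 11 ^ 3 ∧
      ∃ K : Subgroup G, K ≤ normalizer ((U : Subgroup G) : Set G) ∧
        Nonempty (↥K ≃* GL (Fin 2) (ZMod 3))) ∧
    ∃ x y : G, orderOf x = 11 ∧ orderOf y = 11 ∧ ¬ IsConj x y ∧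
      ∀ w : G, orderOf w = 11 → IsConj w x ∨ IsConj w y := by
  obtain ⟨D⟩ := exists_setup E k
  have hne : ¬ ∀ a ∈ D.S, ∀ b ∈ D.S, a * b = b * a := fun h => by
    obtain ⟨⟨u, A⟩⟩ := D.exists_abData h
    exact hno u A
  refine ⟨fun U => ?_, D.two_classes_eleven hne⟩
  haveI : Fact (Nat.Prime 11) := ⟨by norm_num⟩
  have hS : Nat.card D.S = 11 ^ (Nat.card G).factorization 11 := by
    rw [D.shape.card_S, E.facts.card,
      show bigOrder = 11 ^ 3 * 65195770883604480 by norm_num [bigOrder],
      Nat.factorization_mul (by norm_num) (by norm_num), Finsupp.add_apply,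
      Nat.Prime.factorization_pow (by norm_num), Finsupp.single_eq_same,
      Nat.factorization_eq_zero_of_not_dvd (by norm_num)]
    norm_num
  obtain ⟨g, rfl⟩ := MulAction.exists_smul_eq G (Sylow.ofCard D.S hS) U
  set φ := (MulAut.conj g).toMonoidHom with hφ
  have hU : ((g • Sylow.ofCard D.S hS : Sylow 11 G) : Subgroup G) = D.S.map φ := rfl
  rw [hU]
  have hinj : Function.Injective φ := (MulAut.conj g).injective
  let e : ↥D.S ≃* ↥(D.S.map φ) := D.S.equivMapOfInjective φ hinj
  have hN : normalizer ((D.S.map φ : Subgroup G) : Set G) = (normalizer (D.S : Set G)).map φ :=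
    (map_equiv_normalizer_eq _ _).symm
  refine ⟨CfsgLib.PLocal.LargeExtra.isExtraspecial_equiv e (D.extraspecial hne), ?_, ?_, ?_, ?_⟩
  · rw [card_map_conj, D.shape.card_S]; norm_num
  · rw [← Monoid.exponent_eq_of_mulEquiv e]
    refine ((Nat.dvd_prime (by norm_num : Nat.Prime 11)).1
      (Monoid.exponent_dvd_of_forall_pow_eq_one fun a => Subtype.ext
        (D.shape.pow_eleven a a.2))).resolve_left fun h => ?_
    have h1 := Monoid.order_dvd_exponent (⟨D.pick.x, D.shape.mem_x⟩ : D.S)
    rw [h, Subgroup.orderOf_mk, D.pick.ord_x] at h1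
    norm_num at h1
  · rw [hN, card_map_conj, D.NS_eq hne, D.card_NX]; norm_num
  · obtain ⟨K, hK, ⟨eK⟩⟩ := D.exists_GL hne
    refine ⟨K.map φ, ?_, ⟨(K.equivMapOfInjective φ hinj).symm.trans eK⟩⟩
    rw [hN, D.NS_eq hne]
    exact map_mono hK

end CfsgLib.J4Type.Eleven
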