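import Cfsg.Agent.Lib.J4Type.Eleven.Local.FromType
import Cfsg.Agent.Lib.J4Type.Eleven.Local.Main

/-!
The two statements, given that abelian data are impossible.
-/

set_option autoImplicit false

namespace CfsgLib.J4Type.Eleven

open Cfsg

variable {G : Type*} [Group G] [Finite G] [IsSimpleGroup G]

theorem sylow_eleven_of (hG : ¬ IsMulCommutative G) (hJ : IsOfJankoFourType G)
    (hno : ∀ z u : G, IsOfJankoFourTypeAt z → AbData z u → False) :
    (∀ U : Sylow 11 G,
      Cfsg.IsExtraspecial 11 ↥(U : Subgroup G) ∧ Nat.card ↥(U : Subgroup G) = 11 ^ 3 ∧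
      Monoid.exponent ↥(U : Subgroup G) = 11 ∧
      Nat.card ↥(Subgroup.normalizer ((U : Subgroup G) : Set G)) = 2 ^ 4 * 3 * 5 * 11 ^ 3 ∧
      ∃ K : Subgroup G, K ≤ Subgroup.normalizer ((U : Subgroup G) : Set G) ∧
        Nonempty (↥K ≃* GL (Fin 2) (ZMod 3))) ∧
    ∃ x y : G, orderOf x = 11 ∧ orderOf y = 11 ∧ ¬ IsConj x y ∧
      ∀ w : G, orderOf w = 11 → IsConj w x ∨ IsConj w y := by
  obtain ⟨z, t, hz, E, ⟨k⟩⟩ := exists_env_pick hG hJ
  exact structure_of E k fun u => hno z u hz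

end CfsgLib.J4Type.Eleven
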