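import Cfsg.Agent.Lib.J4Type.Eleven.Arith
import Cfsg.Agent.Lib.J4Type.Eleven.Cong
import Cfsg.Agent.Lib.J4Type.Eleven.CharMain
import Cfsg.Agent.Lib.J4Type.Eleven.Local.Statements

/-!
The Sylow subgroup for the prime eleven of a group of Janko-four type.
-/

set_option autoImplicit false

namespace CfsgLib.J4Type.Eleven

open Cfsg CfsgLib.J4Type

variable {G : Type*} [Group G] [Finite G] [IsSimpleGroup G]

theorem commutator_top (hG : ¬ IsMulCommutative G) : commutator G = ⊤ := by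
  refine (Subgroup.Normal.eq_bot_or_eq_top inferInstance).resolve_left fun h => hG ?_
  refine ⟨⟨fun a b => commutatorElement_eq_one_iff_mul_comm.1 (Subgroup.mem_bot.1 ?_)⟩⟩
  rw [← h, commutator_def]
  exact Subgroup.commutator_mem_commutator (Subgroup.mem_top a) (Subgroup.mem_top b)

theorem no_abData (hG : ¬ IsMulCommutative G) (hJ : IsOfJankoFourType G) (z u : G)
    (hz : IsOfJankoFourTypeAt z) (A : AbData z u) : False := by
  obtain ⟨P, hP⟩ := hz
  obtain ⟨F⟩ := frame_exists hP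
  obtain ⟨D⟩ := vData_exists F
  have hf := fused_exists hG D
  obtain ⟨W, hW, hWc, hWs⟩ := (Cfsg.Agent.S5570.result hG hJ).1
  obtain ⟨⟨B, -, -, -, e5⟩, -⟩ := (Cfsg.Agent.S5570.result hG hJ).2.2 W hW hWc hWs
  have facts := BigPrimes.facts_of hG hJ (BigPrimes.natCard_eq hG hJ) ⟨B, e5⟩
  obtain ⟨Dg⟩ := A.exists_degrees (commutator_top hG)
    (cong_of hG D hf A.ord_t A.not_conj A.card_G) facts
  exact no_degrees Dg

theorem sylow_eleven (hG : ¬ IsMulCommutative G) (hJ : IsOfJankoFourType G) :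
    (∀ U : Sylow 11 G,
      Cfsg.IsExtraspecial 11 ↥(U : Subgroup G) ∧ Nat.card ↥(U : Subgroup G) = 11 ^ 3 ∧
      Monoid.exponent ↥(U : Subgroup G) = 11 ∧
      Nat.card ↥(Subgroup.normalizer ((U : Subgroup G) : Set G)) = 2 ^ 4 * 3 * 5 * 11 ^ 3 ∧
      ∃ K : Subgroup G, K ≤ Subgroup.normalizer ((U : Subgroup G) : Set G) ∧
        Nonempty (↥K ≃* GL (Fin 2) (ZMod 3))) ∧
    ∃ x y : G, orderOf x = 11 ∧ orderOf y = 11 ∧ ¬ IsConj x y ∧
      ∀ w : G, orderOf w = 11 → IsConj w x ∨ IsConj w y :=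
  sylow_eleven_of hG hJ (no_abData hG hJ)

end CfsgLib.J4Type.Eleven
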