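import Mathlib

/-!
Counting lemmas for conjugation: fixed points of an element of prime order, orbits, involutive
permutations of odd sets, Sylow subgroups of prime order.
-/

set_option autoImplicit false
set_option linter.style.haveILetI false
set_option linter.unusedSectionVars false

namespace CfsgLib.J4Type.Eleven

open Subgroup

variable {G : Type*} [Group G]

theorem mem_cent {g a : G} : g ∈ centralizer ({a} : Set G) ↔ g * a = a * g :=
  mem_centralizer_singleton_iff

theorem mem_cent_symm {g a : G} : g ∈ centralizer ({a} : Set G) ↔ a ∈ centralizer ({g} : Set G) := by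
  rw [mem_cent, mem_cent]; exact eq_comm

theorem zpowers_le_cent {g a : G} (h : g ∈ centralizer ({a} : Set G)) :
    zpowers a ≤ centralizer ({g} : Set G) := zpowers_le.2 (mem_cent_symm.1 h)

theorem cent_zpowers (x : G) :
    centralizer ((zpowers x : Subgroup G) : Set G) = centralizer ({x} : Set G) := by
  rw [Subgroup.zpowers_eq_closure, Subgroup.centralizer_closure]

theorem mem_cent_conj {g a c : G} :
    g ∈ centralizer ({c * a * c⁻¹} : Set G) ↔ c⁻¹ * g * c ∈ centralizer ({a} : Set G) := by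
  rw [mem_cent, mem_cent]
  constructor <;> intro h
  · calc c⁻¹ * g * c * a = c⁻¹ * (g * (c * a * c⁻¹)) * c := by group
      _ = c⁻¹ * (c * a * c⁻¹ * g) * c := by rw [h]
      _ = a * (c⁻¹ * g * c) := by group
  · calc g * (c * a * c⁻¹) = c * (c⁻¹ * g * c * a) * c⁻¹ := by group
      _ = c * (a * (c⁻¹ * g * c)) * c⁻¹ := by rw [h]
      _ = c * a * c⁻¹ * g := by group

theorem map_conj_cent (c a : G) : (centralizer ({a} : Set G)).map (MulAut.conj c).toMonoidHom =
    centralizer ({c * a * c⁻¹} : Set G) := by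
  ext g
  rw [mem_map_equiv, MulAut.conj_symm_apply, mem_cent_conj]

theorem card_map_conj (c : G) (H : Subgroup G) :
    Nat.card ↥(H.map (MulAut.conj c).toMonoidHom) = Nat.card H :=
  (Nat.card_congr (H.equivMapOfInjective _ (MulAut.conj c).injective).toEquiv).symm

theorem card_cent_conj (c a : G) :
    Nat.card (centralizer ({c * a * c⁻¹} : Set G)) = Nat.card (centralizer ({a} : Set G)) := by
  rw [← map_conj_cent, card_map_conj]

theorem card_cent_inf_conj (c a b : G) :
    Nat.card ↥(centralizer ({c * a * c⁻¹} : Set G) ⊓ centralizer ({c * b * c⁻¹} : Set G)) =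
      Nat.card ↥(centralizer ({a} : Set G) ⊓ centralizer ({b} : Set G)) := by
  rw [← map_conj_cent, ← map_conj_cent, ← map_inf _ _ _ (MulAut.conj c).injective, card_map_conj]

theorem cent_pow_le (x : G) (k : ℕ) : centralizer ({x} : Set G) ≤ centralizer ({x ^ k} : Set G) :=
  fun g hg => mem_cent.2 (((show Commute g x from mem_cent.1 hg).pow_right k).eq)

theorem orderOf_conj' (g y : G) : orderOf (g * y * g⁻¹) = orderOf y :=
  MulEquiv.orderOf_eq (MulAut.conj g) y

theorem inv_eq_self_of_orderOf {u : G} (hu : orderOf u = 2) : u⁻¹ = u := by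
  refine inv_eq_of_mul_eq_one_left ?_
  rw [← pow_two, ← hu, pow_orderOf_eq_one]

theorem sq_eq_one_of_orderOf {u : G} (hu : orderOf u = 2) : u * u = 1 := by
  rw [← pow_two, ← hu, pow_orderOf_eq_one]

theorem ne_one_of_orderOf {u : G} {n : ℕ} (hu : orderOf u = n) (hn : n ≠ 1) : u ≠ 1 := fun h => by
  rw [h, orderOf_one] at hu; exact hn hu.symm

theorem eq_zpowers_of_mem {p : ℕ} (hp : p.Prime) {x q : G} (hx : orderOf x = p)
    (hq : q ∈ zpowers x) (hq1 : q ≠ 1) : zpowers q = zpowers x := by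
  have hfin : Finite (zpowers x) :=
    Nat.finite_of_card_ne_zero (by rw [Nat.card_zpowers, hx]; exact hp.ne_zero)
  refine eq_of_le_of_card_ge (zpowers_le.2 hq) ?_
  rw [Nat.card_zpowers, Nat.card_zpowers, hx]
  have h1 : orderOf q ∣ p := hx ▸ orderOf_dvd_of_mem_zpowers hq
  rcases (Nat.dvd_prime hp).1 h1 with h | h
  · exact absurd (orderOf_eq_one_iff.1 h) hq1
  · exact h.ge

variable [Finite G]

/-- The fixed points of an element of prime order acting by conjugation on an invariant set. -/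
theorem ncard_modEq_fixed {p : ℕ} [Fact p.Prime] {y : G} (hy : orderOf y = p) {T : Set G}
    (hT : ∀ v ∈ T, y * v * y⁻¹ ∈ T) :
    Nat.card T ≡ Nat.card {v : G // v ∈ T ∧ y * v = v * y} [MOD p] := by
  have hinv : ∀ n : ℕ, ∀ v ∈ T, y ^ n * v * (y ^ n)⁻¹ ∈ T := fun n => by
    induction n with
    | zero => intro v hv; simpa using hv
    | succ n ih =>
      intro v hv
      rw [show y ^ (n + 1) * v * (y ^ (n + 1))⁻¹ = y * (y ^ n * v * (y ^ n)⁻¹) * y⁻¹ by
        rw [pow_succ']; group]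
      exact hT _ (ih v hv)
  have hinvz : ∀ g : zpowers y, ∀ v ∈ T, (g : G) * v * (g : G)⁻¹ ∈ T := fun g v hv => by
    obtain ⟨n, hn⟩ := (isOfFinOrder_of_finite y).mem_powers_iff_mem_zpowers.2 g.2
    rw [← hn]; exact hinv n v hv
  letI : MulAction (zpowers y) T :=
    { smul := fun g v => ⟨(g : G) * v * (g : G)⁻¹, hinvz g v v.2⟩
      one_smul := fun v => Subtype.ext (by show (1 : G) * v * (1 : G)⁻¹ = v; simp)
      mul_smul := fun g h v => Subtype.ext (by
        show ((g : G) * h) * v * ((g : G) * h)⁻¹ = (g : G) * ((h : G) * v * (h : G)⁻¹) * (g : G)⁻¹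
        group) }
  have hp : IsPGroup p (zpowers y) := IsPGroup.of_card (n := 1) (by
    rw [Nat.card_zpowers, hy, pow_one])
  refine (hp.card_modEq_card_fixedPoints T).trans (congrArg (· % p) ?_)
  refine Nat.card_congr
    { toFun := fun v => ⟨(v.1 : G), v.1.2, ?_⟩
      invFun := fun v => ⟨⟨v.1, v.2.1⟩, fun g => Subtype.ext ?_⟩
      left_inv := fun v => rfl
      right_inv := fun v => rfl }
  · have h := congrArg Subtype.val (v.2 ⟨y, mem_zpowers y⟩)
    exact mul_inv_eq_iff_eq_mul.1 h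
  · obtain ⟨i, hi⟩ := mem_zpowers_iff.1 g.2
    show (g : G) * v.1 * (g : G)⁻¹ = v.1
    rw [← hi, ((show Commute y v.1 from v.2.2).zpow_left i).eq, mul_inv_cancel_right]

theorem subgroup_modEq_fixed {p : ℕ} [Fact p.Prime] {y : G} (hy : orderOf y = p) {S : Subgroup G}
    (hS : ∀ v ∈ S, y * v * y⁻¹ ∈ S) :
    Nat.card S ≡ Nat.card ↥(S ⊓ centralizer ({y} : Set G)) [MOD p] := by
  refine (ncard_modEq_fixed hy (T := (S : Set G)) hS).trans (congrArg (· % p) ?_)
  exact Nat.card_congr (Equiv.subtypeEquivRight fun v => and_congr_right fun _ =>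
    ⟨fun h => mem_cent.2 h.symm, fun h => (mem_cent.1 h).symm⟩)

/-- An orbit under conjugation by a subgroup. -/
def orbOf (N : Subgroup G) (y : G) : Set G := {v | ∃ n ∈ N, n * y * n⁻¹ = v}

theorem mem_orbOf_self (N : Subgroup G) (y : G) : y ∈ orbOf N y := ⟨1, N.one_mem, by simp⟩

theorem orbOf_card (N : Subgroup G) (y : G) :
    (orbOf N y).ncard * Nat.card ↥(N ⊓ centralizer ({y} : Set G)) = Nat.card N := by
  letI : MulAction N G :=
    { smul := fun n v => (n : G) * v * (n : G)⁻¹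
      one_smul := fun v => by show (1 : G) * v * (1 : G)⁻¹ = v; simp
      mul_smul := fun g h v => by
        show ((g : G) * h) * v * ((g : G) * h)⁻¹ = (g : G) * ((h : G) * v * (h : G)⁻¹) * (g : G)⁻¹
        group }
  have h1 : MulAction.orbit N y = orbOf N y := by
    ext v
    exact ⟨fun ⟨n, hn⟩ => ⟨n, n.2, hn⟩, fun ⟨n, hn, e⟩ => ⟨⟨n, hn⟩, e⟩⟩
  have h2 : MulAction.stabilizer N y = (N ⊓ centralizer ({y} : Set G)).subgroupOf N := by
    ext n
    rw [MulAction.mem_stabilizer_iff, mem_subgroupOf, Subgroup.mem_inf, mem_cent]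
    exact ⟨fun h => ⟨n.2, mul_inv_eq_iff_eq_mul.1 h⟩, fun h => mul_inv_eq_iff_eq_mul.2 h.2⟩
  have h3 := Subgroup.card_mul_index (MulAction.stabilizer N y)
  rw [MulAction.index_stabilizer, h1, h2,
    Nat.card_congr (subgroupOfEquivOfLe inf_le_left).toEquiv] at h3
  rw [← h3, Nat.mul_comm]

/-- An invariant set all whose orbits have the same length has cardinality divisible by it. -/
theorem orbit_dvd_ncard {N : Subgroup G} {d : ℕ} (T : Set G)
    (hinv : ∀ n ∈ N, ∀ v ∈ T, n * v * n⁻¹ ∈ T) (hd : ∀ v ∈ T, (orbOf N v).ncard = d) :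
    d ∣ T.ncard := by
  suffices ∀ m, ∀ T : Set G, T.ncard = m → (∀ n ∈ N, ∀ v ∈ T, n * v * n⁻¹ ∈ T) →
      (∀ v ∈ T, (orbOf N v).ncard = d) → d ∣ m from this _ T rfl hinv hd
  intro m
  induction m using Nat.strong_induction_on with
  | _ m ih =>
    intro T hm hinv hd
    rcases Set.eq_empty_or_nonempty T with rfl | ⟨y, hy⟩
    · rw [← hm, Set.ncard_empty]; exact dvd_zero d
    have hsub : orbOf N y ⊆ T := by
      rintro _ ⟨n, hn, rfl⟩; exact hinv n hn y hy
    have hsplit := Set.ncard_sdiff_add_ncard_of_subset hsub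
    have hpos : 0 < (orbOf N y).ncard :=
      (Set.ncard_pos (Set.toFinite _)).2 ⟨y, mem_orbOf_self N y⟩
    have h1 : d ∣ (T \ orbOf N y).ncard := by
      refine ih _ (by omega) _ rfl (fun n hn v hv => ⟨hinv n hn v hv.1, fun h => hv.2 ?_⟩)
        fun v hv => hd v hv.1
      obtain ⟨k, hk, e⟩ := h
      exact ⟨n⁻¹ * k, N.mul_mem (N.inv_mem hn) hk, by
        rw [show n⁻¹ * k * y * (n⁻¹ * k)⁻¹ = n⁻¹ * (k * y * k⁻¹) * n by group, e]; group⟩
    rw [← hm, ← hsplit]
    exact dvd_add h1 (dvd_of_eq (hd y hy).symm)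

/-- A set of odd cardinality preserved by an involution contains a fixed element. -/
theorem exists_fixed_odd {a : G} (ha : a * a = 1) {T : Set G} (hodd : Odd T.ncard)
    (hT : ∀ v ∈ T, a * v * a⁻¹ ∈ T) : ∃ v ∈ T, a * v = v * a := by
  classical
  haveI : Fact (Nat.Prime 2) := ⟨Nat.prime_two⟩
  by_cases h1 : a = 1
  · obtain ⟨v, hv⟩ := Set.nonempty_of_ncard_ne_zero hodd.pos.ne'
    exact ⟨v, hv, by rw [h1, one_mul, mul_one]⟩
  have h2 : orderOf a = 2 := orderOf_eq_prime (by rw [pow_two]; exact ha) h1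
  have h := ncard_modEq_fixed h2 hT
  rw [Nat.card_coe_set_eq, Nat.ModEq, Nat.odd_iff.1 hodd] at h
  have : Nonempty {v : G // v ∈ T ∧ a * v = v * a} := by
    by_contra hne
    rw [not_nonempty_iff] at hne
    rw [Nat.card_of_isEmpty] at h
    norm_num at h
  obtain ⟨v, hv, e⟩ := this
  exact ⟨v, hv, e⟩

/-- A subgroup of order `p` of a group whose order has `p` exactly once is unique up to conjugacy. -/
theorem exists_conj_zpowers {p : ℕ} [Fact p.Prime] {H : Subgroup G} (hp : p ∣ Nat.card H)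
    (hp2 : ¬ p ^ 2 ∣ Nat.card H) {y w : G} (hy : y ∈ H) (hw : w ∈ H) (hyo : orderOf y = p)
    (hwo : orderOf w = p) : ∃ h ∈ H, zpowers (h * w * h⁻¹) = zpowers y := by
  have hpp : p.Prime := Fact.out
  have hf : (Nat.card H).factorization p = 1 := by
    refine le_antisymm ?_ ((hpp.pow_dvd_iff_le_factorization Nat.card_pos.ne').1 (by rwa [pow_one]))
    by_contra h
    exact hp2 ((hpp.pow_dvd_iff_le_factorization Nat.card_pos.ne').2 (by omega))
  have hc : ∀ v : G, ∀ hv : v ∈ H, orderOf v = p →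
      Nat.card (zpowers (⟨v, hv⟩ : H)) = p ^ (Nat.card H).factorization p := fun v hv hvo => by
    rw [hf, pow_one, Nat.card_zpowers, Subgroup.orderOf_mk, hvo]
  obtain ⟨⟨h, hh⟩, e⟩ := MulAction.exists_smul_eq H (Sylow.ofCard _ (hc w hw hwo))
    (Sylow.ofCard _ (hc y hy hyo))
  refine ⟨h, hh, ?_⟩
  have e1 : (zpowers (⟨w, hw⟩ : H)).map (MulAut.conj (⟨h, hh⟩ : H)).toMonoidHom =
      zpowers (⟨y, hy⟩ : H) := congrArg (fun P : Sylow p H => (P : Subgroup H)) e
  rw [MonoidHom.map_zpowers] at e1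
  have e2 := congrArg (Subgroup.map H.subtype) e1
  rw [MonoidHom.map_zpowers, MonoidHom.map_zpowers] at e2
  exact e2

end CfsgLib.J4Type.Eleven
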