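import Cfsg.Agent.Lib.J4Type.Duad
import Cfsg.Agent.Lib.J4Type.CoreP.M22Facts
import Cfsg.Agent.Lib.J4Type.Eleven.Local.Util

/-!
An element of order eleven of the automorphism group of `M22` is self-centralising.
-/

set_option autoImplicit false
set_option maxRecDepth 100000
set_option linter.style.haveILetI false

namespace CfsgLib.J4Type.Eleven

open Cfsg CfsgLib.Golay CfsgLib.KnownA.Mathieu Subgroup
open scoped Pointwise

theorem aut_cent_eleven {φ : MulAut CoreP.M} (hφ : orderOf φ = 11) :
    centralizer ({φ} : Set (MulAut CoreP.M)) = zpowers φ := by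
  classical
  haveI : Fact (Nat.Prime 11) := ⟨by norm_num⟩
  obtain ⟨e⟩ := duad_iso_std
  set S := MulAction.stabilizer M24 ({pt 23, pt 0} : Finset GolayPt) with hS
  have hCM : permOf codeC ∈ M24 := fixMasks_le _ (inFix_mem codeC_mem)
  have hfix : permOf codeC (pt 23) = pt 23 ∧ permOf codeC (pt 0) = pt 0 := by
    constructor <;> rw [permOf_pt (inFix_valid codeC_mem) (by norm_num)] <;>
      exact congrArg pt (by decide +kernel)
  have hcS : (⟨permOf codeC, hCM⟩ : M24) ∈ S := by
    rw [hS, MulAction.mem_stabilizer_iff, Finset.smul_finset_insert, Finset.smul_finset_singleton]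
    exact congrArg₂ (fun a b => ({a, b} : Finset GolayPt)) hfix.1 hfix.2
  set c : S := ⟨⟨permOf codeC, hCM⟩, hcS⟩ with hc
  have hco : orderOf c = 11 := by
    refine orderOf_eq_prime (Subtype.ext (Subtype.ext ?_)) fun h => ?_
    · show permOf codeC ^ 11 = 1
      refine Equiv.ext fun q => ?_
      have h1 := (imgIter_spec valid_C 11 (idx_lt q)).1
      rw [pt_idx] at h1
      have h2 : ∀ i < 24, imgIter codeC 11 i = i := by decide +kernel
      rw [h1, h2 _ (idx_lt q), pt_idx]
      rfl
    · have h1 : permOf codeC (pt 1) = pt 1 := by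
        have := congrArg (fun g : S => ((g : M24) : Equiv.Perm GolayPt) (pt 1)) h
        simpa [hc] using this
      rw [permOf_pt valid_C (by norm_num)] at h1
      exact absurd h1 (by decide +kernel)
  have hψ : orderOf (e c) = 11 := by rw [MulEquiv.orderOf_eq, hco]
  have hcent : ∀ g : MulAut CoreP.M, g * e c = e c * g → g ∈ zpowers (e c) := by
    intro g hg
    obtain ⟨u, rfl⟩ := e.surjective g
    rw [← map_mul, ← map_mul] at hg
    have hg' := congrArg (fun g : S => ((g : M24) : Equiv.Perm GolayPt)) (e.injective hg)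
    obtain ⟨j, hj⟩ := cent_C _ (u : M24).2 hg'
    refine mem_zpowers_iff.2 ⟨(j : ℤ), ?_⟩
    rw [zpow_natCast, ← map_pow]
    refine congrArg e (Subtype.ext (Subtype.ext ?_))
    rw [SubmonoidClass.coe_pow, SubmonoidClass.coe_pow]
    exact hj.symm
  have h11 : 11 ∣ Nat.card (⊤ : Subgroup (MulAut CoreP.M)) := by
    rw [Subgroup.card_top, CoreP.card_aut]; norm_num
  have h121 : ¬ 11 ^ 2 ∣ Nat.card (⊤ : Subgroup (MulAut CoreP.M)) := by
    rw [Subgroup.card_top, CoreP.card_aut]; norm_num
  obtain ⟨h, -, hh⟩ := exists_conj_zpowers h11 h121 (mem_top φ) (mem_top (e c)) hφ hψ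
  refine le_antisymm (fun g hg => ?_) (zpowers_le.2 (mem_cent.2 rfl))
  rw [← hh]
  have hg' : g ∈ centralizer ((zpowers (h * e c * h⁻¹) : Subgroup _) : Set (MulAut CoreP.M)) := by
    rw [hh, cent_zpowers]; exact hg
  rw [cent_zpowers, mem_cent_conj] at hg'
  obtain ⟨i, hi⟩ := mem_zpowers_iff.1 (hcent _ (mem_cent.1 hg'))
  refine mem_zpowers_iff.2 ⟨i, ?_⟩
  rw [conj_zpow, hi]; group

end CfsgLib.J4Type.Eleven
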