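import Cfsg.Agent.Lib.J4Type.BigPrimes.Main
import Cfsg.Agent.Lib.J4Type.Eleven.Interface
import Cfsg.Agent.Lib.J4Type.Eleven.Local.Util

/-!
The hypotheses under which the Sylow subgroup for the prime eleven is analysed.
-/

set_option autoImplicit false

namespace CfsgLib.J4Type.Eleven

open Subgroup CfsgLib.J4Type.BigPrimes

variable {G : Type*} [Group G] [Finite G]

/-- Classes of involutions, their centralisers and the centralisers in them of the elements of order
eleven. -/
structure Env (z t : G) : Prop where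
  facts : Facts G
  ord_z : orderOf z = 2
  ord_t : orderOf t = 2
  not_conj : ¬ IsConj z t
  two_classes : ∀ u : G, orderOf u = 2 → IsConj z u ∨ IsConj t u
  card_cz : Nat.card (centralizer ({z} : Set G)) = zOrder
  card_ct : Nat.card (centralizer ({t} : Set G)) = tOrder
  cz_eleven : ∀ y : G, orderOf y = 11 → y ∈ centralizer ({z} : Set G) →
    Nat.card ↥(centralizer ({z} : Set G) ⊓ centralizer ({y} : Set G)) = 264
  ct_eleven : ∀ y : G, orderOf y = 11 → y ∈ centralizer ({t} : Set G) →
    Nat.card ↥(centralizer ({t} : Set G) ⊓ centralizer ({y} : Set G)) = 22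
  three : ∀ s y : G, orderOf s = 3 → orderOf y = 11 → s * y = y * s →
    ∃ g : G, y ∈ centralizer ({g * z * g⁻¹} : Set G)

/-- An element of order eleven commuting with `z` and the groups of order 8 and 24 beside it. -/
structure Pick (z : G) where
  /-- The element. -/
  x : G
  /-- The part inside the radical. -/
  Q : Subgroup G
  /-- The part prime to eleven. -/
  K0 : Subgroup G
  ord_x : orderOf x = 11
  mem_x : x ∈ centralizer ({z} : Set G)
  Q_le : Q ≤ K0
  K0_le : K0 ≤ centralizer ({z} : Set G) ⊓ centralizer ({x} : Set G)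
  card_Q : Nat.card Q = 8
  card_K0 : Nat.card K0 = 24
  norm : centralizer ({z} : Set G) ⊓ normalizer ((zpowers x : Subgroup G) : Set G) ≤
    normalizer (Q : Set G) ⊓ normalizer (K0 : Set G)
  cent_Q : K0 ⊓ centralizer (Q : Set G) ≤ Q
  comm : ∃ a ∈ Q, ∃ b ∈ Q, a * b * a⁻¹ * b⁻¹ = z

end CfsgLib.J4Type.Eleven
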