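import Cfsg.Agent.Lib.J4Type.BigPrimes.Card
import Cfsg.Agent.Lib.J4Type.BigPrimes.FromType
import Cfsg.Agent.Lib.J4Type.Eleven.Local.Env
import Cfsg.Agent.Lib.J4Type.Eleven.Local.Aut
import Cfsg.Agent.Lib.J4Type.CoreP.Move
import Cfsg.Agent.S5570

/-!
The hypotheses of the analysis at the prime eleven hold in a group of Janko-four type.
-/

set_option autoImplicit false
set_option linter.style.haveILetI false
set_option linter.unusedSectionVars false

namespace CfsgLib.J4Type.Eleven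

open Cfsg Subgroup CfsgLib.J4Type CfsgLib.J4Type.Frame

section general

variable {G : Type*} [Group G] [Finite G]

/-- Fixed points of an element of order eleven in a group of order `2 ^ n`. -/
theorem fixed_two_group {n : ℕ} {y : G} (hy : orderOf y = 11) {V : Subgroup G}
    (hV : ∀ v ∈ V, y * v * y⁻¹ ∈ V) (hc : Nat.card V = 2 ^ n) :
    ∃ k ≤ n, Nat.card ↥(V ⊓ centralizer ({y} : Set G)) = 2 ^ k ∧ 2 ^ n % 11 = 2 ^ k % 11 := by
  haveI : Fact (Nat.Prime 11) := ⟨by norm_num⟩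
  obtain ⟨k, hk, he⟩ := (Nat.dvd_prime_pow Nat.prime_two).1
    (hc ▸ card_dvd_of_le (inf_le_left : V ⊓ centralizer ({y} : Set G) ≤ V))
  refine ⟨k, hk, he, ?_⟩
  have h := subgroup_modEq_fixed hy hV
  rwa [hc, he] at h

end general

variable {G : Type*} [Group G] [Finite G] [IsSimpleGroup G] {z : G} {P : Subgroup G}

theorem exists_env_pick (hG : ¬ IsMulCommutative G) (hJ : IsOfJankoFourType G) :
    ∃ (z t : G), IsOfJankoFourTypeAt z ∧ Env z t ∧ Nonempty (Pick z) := by
  have hJ' := hJ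
  obtain ⟨z, P, hP⟩ := hJ
  obtain ⟨A, hA, hAc, hAs⟩ := (Cfsg.Agent.S5570.result hG hJ').1
  obtain ⟨⟨B, -, -, -, e5⟩, -⟩ := (Cfsg.Agent.S5570.result hG hJ').2.2 A hA hAc hAs
  have facts := BigPrimes.facts_of hG hJ' (BigPrimes.natCard_eq hG hJ') ⟨B, e5⟩
  obtain ⟨F⟩ := frame_exists hP
  obtain ⟨D⟩ := vData_exists F
  obtain ⟨Bs⟩ := CoreP.exists_base F
  have hf := fused_exists hG D
  obtain ⟨t, ht⟩ := exists_pairV D hf
  obtain ⟨hct, -, -⟩ := Order.tSide D hf ht
  have hto : orderOf t = 2 := Order.orderOf_eq_two_of_pairV D ht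
  have hH : Nat.card (Cen z) = zOrder := by rw [Bs.card_cen]; rfl
  haveI : Fact (Nat.Prime 11) := ⟨by norm_num⟩
  haveI : Fact (Nat.Prime 3) := ⟨by norm_num⟩
  obtain ⟨-, -, hZ, -, hNP⟩ := Cfsg.Agent.S5563.result hG z P hP
  have hCP : centralizer (P : Set G) ≤ Cen z :=
    (Subgroup.centralizer_le_normalizer _).trans hNP
  obtain ⟨p, hpo, hPp⟩ := Bs.exists_gen
  -- the element in `C_H(P)`
  obtain ⟨⟨x, hxC⟩, hx⟩ := exists_prime_orderOf_dvd_card' (G := CP z P) 11
    (by rw [Bs.card_C F]; norm_num)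
  rw [Subgroup.orderOf_mk] at hx
  have hxz : x ∈ Cen z := hxC.1
  have hxP : ∀ a ∈ P, a * x = x * a := fun a ha => mem_centralizer_iff.1 hxC.2 a ha
  set E := Rad z with hE
  set C := centralizer ({x} : Set G) with hC
  set Q := E ⊓ C with hQ
  have hxE : ∀ v ∈ E, x * v * x⁻¹ ∈ E := Bs.rad_conj x hxz
  have hQc : Nat.card Q = 8 := by
    obtain ⟨k, hk, hkc, hmod⟩ := fixed_two_group hx hxE Bs.card_rad
    have h13 : k ≠ 13 := by
      rintro rfl
      have hQE : E ⊓ C = E := eq_of_le_of_card_ge inf_le_left (by rw [hkc, Bs.card_rad])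
      have hall : ∀ v ∈ E, v * x = x * v := fun v hv => mem_cent.1 (hQE.ge hv).2
      have hxE' : x ∈ E := hP.2.2.2.1 ⟨hxz, mem_centralizer_iff.2 hall⟩
      have h1 := Subgroup.orderOf_dvd_natCard E hxE'
      rw [hx, Bs.card_rad] at h1
      norm_num at h1
    have : k = 3 := by
      interval_cases k <;> norm_num at hmod <;> omega
    rw [hkc, this]; norm_num
  -- the kernel of the projection
  set Kp := (Bs.proj).ker.map (Cen z).subtype with hKp
  have hmemK : ∀ g : G, g ∈ Kp ↔ ∃ e ∈ E, ∃ a ∈ P, g = e * a := by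
    intro g
    constructor
    · rintro ⟨⟨g, hg⟩, hk, rfl⟩
      exact (Bs.ker _).1 hk
    · rintro ⟨e, he, a, ha, rfl⟩
      exact ⟨⟨e * a, mul_mem (Bs.rad_le he) (Bs.p_le ha)⟩, (Bs.ker _).2 ⟨e, he, a, ha, rfl⟩, rfl⟩
  set K0 := Kp ⊓ C with hK0
  have hK0mem : ∀ g ∈ K0, ∃ e ∈ Q, ∃ a ∈ P, g = e * a := by
    rintro g ⟨hg, hgC⟩
    obtain ⟨e, he, a, ha, rfl⟩ := (hmemK g).1 hg
    refine ⟨e, ⟨he, ?_⟩, a, ha, rfl⟩
    have := C.mul_mem hgC (C.inv_mem (mem_cent.2 (hxP a ha)))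
    rwa [mul_inv_cancel_right] at this
  have hQK : Q ≤ K0 := fun e he =>
    ⟨(hmemK e).2 ⟨e, he.1, 1, P.one_mem, (mul_one e).symm⟩, he.2⟩
  have hPK : P ≤ K0 := fun a ha =>
    ⟨(hmemK a).2 ⟨1, E.one_mem, a, ha, (one_mul a).symm⟩, mem_cent.2 (hxP a ha)⟩
  have hK0c : Nat.card K0 = 24 := by
    let f : ↥Q × ↥P → ↥K0 := fun q => ⟨q.1 * q.2, mul_mem (hQK q.1.2) (hPK q.2.2)⟩
    have hf : Function.Bijective f := by
      refine ⟨?_, fun g => ?_⟩
      · rintro ⟨a, p⟩ ⟨b, q⟩ h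
        have h' : (a : G) * p = b * q := congrArg Subtype.val h
        have h1 : (b : G)⁻¹ * a = q * (p : G)⁻¹ := by
          rw [eq_mul_inv_iff_mul_eq, mul_assoc, h', inv_mul_cancel_left]
        have h2 := Bs.rad_inf_p _ (mul_mem (inv_mem b.2.1) a.2.1)
          (h1 ▸ mul_mem q.2 (inv_mem p.2))
        have ha : a = b := Subtype.ext (inv_mul_eq_one.1 h2).symm
        subst ha
        exact Prod.ext rfl (Subtype.ext (mul_left_cancel h'))
      · obtain ⟨e, he, a, ha, hg⟩ := hK0mem g g.2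
        exact ⟨(⟨e, he⟩, ⟨a, ha⟩), Subtype.ext hg.symm⟩
    rw [← Nat.card_eq_of_bijective f hf, Nat.card_prod, hQc, Bs.card_p]
  have hproj : orderOf (Bs.proj ⟨x, hxz⟩) = 11 := by
    refine orderOf_eq_prime ?_ fun h => ?_
    · rw [← map_pow, show (⟨x, hxz⟩ : Cen z) ^ 11 = 1 from
        Subtype.ext (by rw [SubmonoidClass.coe_pow, ← hx]; exact pow_orderOf_eq_one x), map_one]
    · have hmem : x ∈ Kp := ⟨⟨x, hxz⟩, h, rfl⟩
      have h1 := Subgroup.orderOf_dvd_natCard K0 ⟨hmem, mem_cent.2 rfl⟩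
      rw [hx, hK0c] at h1
      norm_num at h1
  have hCH : Nat.card ↥(Cen z ⊓ C) = 264 := by
    set M := C.subgroupOf (Cen z) with hM
    have h1 := Subgroup.card_mul_index (Bs.proj.ker.subgroupOf M)
    rw [← Subgroup.relIndex, Subgroup.relIndex_ker] at h1
    have h2 : Nat.card (M.map Bs.proj) = 11 := by
      refine Nat.dvd_antisymm ?_ ?_
      · rw [← hproj, ← Nat.card_zpowers, ← aut_cent_eleven hproj]
        refine card_dvd_of_le ?_
        rintro _ ⟨g, hg, rfl⟩
        refine mem_cent.2 ?_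
        rw [← map_mul, ← map_mul]
        exact congrArg Bs.proj (Subtype.ext (mem_cent.1 hg))
      · rw [← hproj, ← Nat.card_zpowers]
        exact card_dvd_of_le (zpowers_le.2 ⟨⟨x, hxz⟩, mem_cent.2 rfl, rfl⟩)
    have h3 : Nat.card (Bs.proj.ker.subgroupOf M) = 24 := by
      rw [← hK0c, ← inf_subgroupOf_right,
        Nat.card_congr (subgroupOfEquivOfLe inf_le_right).toEquiv,
        Nat.card_congr ((Bs.proj.ker ⊓ M).equivMapOfInjective _ (Cen z).subtype_injective).toEquiv,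
        map_inf _ _ _ (Cen z).subtype_injective, hM, Subgroup.subgroupOf_map_subtype]
      have hle : Kp ≤ Cen z := map_subtype_le _
      congr 1
      rw [show K0 = Kp ⊓ C from rfl, ← inf_assoc, inf_comm Kp C, inf_assoc, inf_eq_left.2 hle]
    rw [h2, h3, hM, ← inf_subgroupOf_right,
      Nat.card_congr (subgroupOfEquivOfLe inf_le_right).toEquiv, inf_comm] at h1
    rw [← h1]
  have h11H : 11 ∣ Nat.card (Cen z) := by rw [hH]; norm_num [zOrder]
  have h121H : ¬ 11 ^ 2 ∣ Nat.card (Cen z) := by rw [hH]; norm_num [zOrder]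
  refine ⟨z, t, ⟨P, hP⟩, ⟨facts, Bs.z_ord, hto, ht.2.2, fun u hu => Order.classes D hf ht u
    (sq_eq_one_of_orderOf hu) (ne_one_of_orderOf hu (by norm_num)), hH, hct, ?_, ?_, ?_⟩, ⟨?_⟩⟩
  · intro y hy hyz
    obtain ⟨g, hg, he⟩ := exists_conj_zpowers h11H h121H hyz hxz hy hx
    have hgz : g * z * g⁻¹ = z := by rw [mem_cent.1 hg, mul_inv_cancel_right]
    rw [← cent_zpowers y, ← he, cent_zpowers, ← hCH]
    conv_lhs => rw [← hgz]
    exact card_cent_inf_conj g z x
  · intro y hy hyt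
    obtain ⟨V, K, hV, hK, hle, hVe, hVc, hi, hsup, ⟨eK⟩⟩ :=
      Cfsg.Agent.S5569.result hG z ⟨P, hP⟩ t hto ht.2.2
    set T := centralizer ({t} : Set G) with hT
    have hVn : (V.subgroupOf T).Normal := normal_subgroupOf_iff_le_normalizer hV |>.2 hle
    have hcomp : (V.subgroupOf T).IsComplement' (K.subgroupOf T) := by
      refine isComplement'_of_disjoint_and_mul_eq_univ ?_ ?_
      · rw [disjoint_iff_inf_le]
        rintro a ⟨haV, haK⟩
        have ha : (a : G) ∈ K ⊓ V := ⟨haK, haV⟩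
        rw [hi, mem_bot] at ha
        exact mem_bot.2 (Subtype.ext ha)
      · rw [← normal_mul, ← Subgroup.subgroupOf_sup hV hK, sup_comm, hsup, subgroupOf_self]
        rfl
    let π : T →* MulAut ↥Spor.M22 := (((hcomp.symm.QuotientMulEquiv).trans
      ((subgroupOfEquivOfLe hK).trans eK)).toMonoidHom).comp (QuotientGroup.mk' _)
    have hker : π.ker = V.subgroupOf T := by
      rw [MonoidHom.ker_comp_of_injective _ _ (MulEquiv.injective _), QuotientGroup.ker_mk']
    have hyV : ∀ v ∈ V, y * v * y⁻¹ ∈ V := fun v hv => (mem_normalizer_iff.1 (hle hyt) v).1 hv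
    obtain ⟨k, hk, hkc, hmod⟩ := fixed_two_group hy hyV hVc
    have hk11 : k ≠ 11 := by
      rintro rfl
      have hVE : V ⊓ centralizer ({y} : Set G) = V :=
        eq_of_le_of_card_ge inf_le_left (by rw [hkc, hVc])
      have hall : ∀ v ∈ V, v * y = y * v := fun v hv => mem_cent.1 (hVE.ge hv).2
      have h2 := Subgroup.orderOf_dvd_natCard V
        ((Cfsg.Agent.S5567.result hG hJ' V hVe hVc).1 (mem_centralizer_iff.2 hall))
      rw [hy, hVc] at h2
      norm_num at h2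
    have hk1 : k = 1 := by
      interval_cases k <;> norm_num at hmod <;> omega
    set M := (centralizer ({y} : Set G)).subgroupOf T with hM
    have hπy : orderOf (π ⟨y, hyt⟩) = 11 := by
      refine orderOf_eq_prime ?_ fun h => ?_
      · rw [← map_pow, show (⟨y, hyt⟩ : T) ^ 11 = 1 from
          Subtype.ext (by rw [SubmonoidClass.coe_pow, ← hy]; exact pow_orderOf_eq_one y), map_one]
      · rw [← MonoidHom.mem_ker, hker, mem_subgroupOf] at h
        have h2 := Subgroup.orderOf_dvd_natCard V h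
        rw [hy, hVc] at h2
        norm_num at h2
    have h1 := Subgroup.card_mul_index (π.ker.subgroupOf M)
    rw [← Subgroup.relIndex, Subgroup.relIndex_ker] at h1
    have h2 : Nat.card (M.map π) = 11 := by
      refine Nat.dvd_antisymm ?_ ?_
      · rw [← hπy, ← Nat.card_zpowers, ← aut_cent_eleven hπy]
        refine card_dvd_of_le ?_
        rintro _ ⟨g, hg, rfl⟩
        refine mem_cent.2 ?_
        rw [← map_mul, ← map_mul]
        exact congrArg π (Subtype.ext (mem_cent.1 hg))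
      · rw [← hπy, ← Nat.card_zpowers]
        exact card_dvd_of_le (zpowers_le.2 ⟨⟨y, hyt⟩, mem_cent.2 rfl, rfl⟩)
    have h3 : Nat.card (π.ker.subgroupOf M) = 2 := by
      rw [hker, ← inf_subgroupOf_right, Nat.card_congr (subgroupOfEquivOfLe inf_le_right).toEquiv,
        hM]
      show Nat.card ↥((V ⊓ centralizer ({y} : Set G)).subgroupOf T) = 2
      rw [Nat.card_congr (subgroupOfEquivOfLe (inf_le_left.trans hV)).toEquiv, hkc, hk1, pow_one]
    rw [h2, h3, hM, ← inf_subgroupOf_right,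
      Nat.card_congr (subgroupOfEquivOfLe inf_le_right).toEquiv, inf_comm] at h1
    rw [← h1]
  · intro s y hs hy hsy
    obtain ⟨c, hc⟩ := isConj_iff.1 (Cfsg.Agent.S5564.result hG hJ' p s hpo hs)
    refine ⟨c, mem_cent_conj.2 (hCP ?_)⟩
    rw [hPp, cent_zpowers]
    have hy' : y ∈ centralizer ({c * p * c⁻¹} : Set G) := by rw [hc]; exact mem_cent.2 hsy.symm
    exact mem_cent_conj.1 hy'
  -- the groups beside `x`
  refine ⟨x, Q, K0, hx, hxz, hQK, le_inf (inf_le_left.trans (map_subtype_le _)) inf_le_right,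
    hQc, hK0c, ?_, ?_, ?_⟩
  · have hkey : ∀ g ∈ Cen z ⊓ normalizer ((zpowers x : Subgroup G) : Set G), ∀ c ∈ C,
        g * c * g⁻¹ ∈ C := by
      intro g hg c hc
      rw [hC, ← cent_zpowers x] at hc ⊢
      refine mem_centralizer_iff.2 fun a ha => ?_
      have ha' : g⁻¹ * a * g ∈ zpowers x := by
        simpa using (mem_normalizer_iff.1 (inv_mem hg.2) a).1 ha
      have := mem_centralizer_iff.1 hc _ ha'
      calc a * (g * c * g⁻¹) = g * ((g⁻¹ * a * g) * c) * g⁻¹ := by group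
        _ = g * (c * (g⁻¹ * a * g)) * g⁻¹ := by rw [this]
        _ = g * c * g⁻¹ * a := by group
    intro g hg
    have hkp : ∀ g ∈ Cen z, ∀ c ∈ Kp, g * c * g⁻¹ ∈ Kp := by
      rintro g hg _ ⟨c, hc, rfl⟩
      exact ⟨⟨g, hg⟩ * c * ⟨g, hg⟩⁻¹, (MonoidHom.normal_ker _).conj_mem c hc _, rfl⟩
    have hinv := inv_mem hg
    refine ⟨mem_normalizer_iff.2 fun c => ⟨fun h => ⟨Bs.rad_conj g hg.1 c h.1, hkey g hg c h.2⟩,
      fun h => ?_⟩, mem_normalizer_iff.2 fun c => ⟨fun h => ⟨hkp g hg.1 c h.1, hkey g hg c h.2⟩,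
      fun h => ?_⟩⟩
    · have h1 := Bs.rad_conj g⁻¹ hinv.1 _ h.1
      have h2 := hkey g⁻¹ hinv _ h.2
      rw [show g⁻¹ * (g * c * g⁻¹) * g⁻¹⁻¹ = c by group] at h1 h2
      exact ⟨h1, h2⟩
    · have h1 := hkp g⁻¹ hinv.1 _ h.1
      have h2 := hkey g⁻¹ hinv _ h.2
      rw [show g⁻¹ * (g * c * g⁻¹) * g⁻¹⁻¹ = c by group] at h1 h2
      exact ⟨h1, h2⟩
  · rintro g ⟨hg, hgQ⟩
    obtain ⟨e, he, a, ha, rfl⟩ := hK0mem g hg
    by_cases ha1 : a = 1
    · rw [ha1, mul_one]; exact he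
    exfalso
    have hsmall : Q ≤ zpowers z := by
      intro b hb
      have hQeq : e⁻¹ * b * e = a * b * a⁻¹ := by
        have h := mem_centralizer_iff.1 hgQ b hb
        calc e⁻¹ * b * e = e⁻¹ * (b * (e * a)) * a⁻¹ := by group
          _ = e⁻¹ * (e * a * b) * a⁻¹ := by rw [h]
          _ = a * b * a⁻¹ := by group
      have hco : F.co (e⁻¹ * b * e) = F.co b := by
        rw [F.co_mul _ (mul_mem (inv_mem he.1) hb.1) _ he.1, F.co_mul _ (inv_mem he.1) _ hb.1,
          CoreP.Base.co_inv F he.1, Nat.xor_comm (F.co e) (F.co b), Nat.xor_assoc, Nat.xor_self,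
          Nat.xor_zero]
      rw [hQeq] at hco
      have hab : a * b * a⁻¹ ∈ E := Bs.rad_conj a (Bs.p_le ha) b hb.1
      have hd : a * b * a⁻¹ * b⁻¹ ∈ zpowers z := by
        have h0 : F.co (a * b * a⁻¹ * b⁻¹) = 0 := by
          rw [F.co_mul _ hab _ (inv_mem hb.1), CoreP.Base.co_inv F hb.1, hco, Nat.xor_self]
        rcases (F.co_eq_zero _ (mul_mem hab (inv_mem hb.1))).1 h0 with h | h <;> rw [h]
        exacts [one_mem _, mem_zpowers z]
      obtain ⟨w, hw, hwz⟩ : ∃ w, a * b * a⁻¹ = w * b ∧ (w = 1 ∨ w = z) :=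
        ⟨a * b * a⁻¹ * b⁻¹, by group, Bs.mem_zpowers_z hd⟩
      have ha3 : a ^ 3 = 1 := by
        have h := Subgroup.orderOf_dvd_natCard P ha
        rw [Bs.card_p] at h
        exact orderOf_dvd_iff_pow_eq_one.1 h
      have haw : a * w * a⁻¹ = w := by
        rcases hwz with rfl | rfl
        · group
        · rw [Bs.comm_z (Bs.p_le ha), mul_inv_cancel_right]
      have hb3 : b = w * (w * (w * b)) :=
        calc b = a ^ 3 * b * (a ^ 3)⁻¹ := by rw [ha3]; group
          _ = a * (a * (a * b * a⁻¹) * a⁻¹) * a⁻¹ := by rw [pow_succ, pow_two]; group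
          _ = a * (a * (w * b) * a⁻¹) * a⁻¹ := by rw [hw]
          _ = a * (a * w * a⁻¹ * (a * b * a⁻¹)) * a⁻¹ := by group
          _ = a * (w * (w * b)) * a⁻¹ := by rw [haw, hw]
          _ = a * w * a⁻¹ * (a * w * a⁻¹ * (a * b * a⁻¹)) := by group
          _ = w * (w * (w * b)) := by rw [haw, hw]
      have hw1 : w = 1 := by
        rcases hwz with h | h
        · exact h
        · exfalso
          rw [h, ← mul_assoc z z b, Bs.zz, one_mul] at hb3
          exact Bs.z_ne_one (mul_eq_right.1 hb3.symm)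
      have hbP : b ∈ centralizer (P : Set G) := by
        have hab' : a * b = b * a := by
          rw [hw1, one_mul] at hw; exact mul_inv_eq_iff_eq_mul.1 hw
        rw [hPp, ← eq_zpowers_of_mem (by norm_num : Nat.Prime 3) hpo (hPp ▸ ha) ha1, cent_zpowers]
        exact mem_cent.2 hab'.symm
      exact Bs.rad_cent.le ⟨hb.1, hbP⟩
    have := card_dvd_of_le hsmall
    rw [hQc, Nat.card_zpowers, Bs.z_ord] at this
    norm_num at this
  · -- a non-central element of `Q` and one not commuting with it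
    obtain ⟨a, haQ, haz⟩ : ∃ a ∈ Q, a ∉ zpowers z := by
      by_contra h
      push Not at h
      have := card_dvd_of_le (show Q ≤ zpowers z from h)
      rw [hQc, Nat.card_zpowers, Bs.z_ord] at this
      norm_num at this
    have hcm : ∀ e ∈ E, a * e * a⁻¹ * e⁻¹ = 1 ∨ a * e * a⁻¹ * e⁻¹ = z := by
      intro e he
      refine (F.co_eq_zero _ (mul_mem (mul_mem (mul_mem haQ.1 he) (inv_mem haQ.1)) (inv_mem he))).1 ?_
      rw [F.co_mul _ (mul_mem (mul_mem haQ.1 he) (inv_mem haQ.1)) _ (inv_mem he),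
        F.co_mul _ (mul_mem haQ.1 he) _ (inv_mem haQ.1), F.co_mul _ haQ.1 _ he, CoreP.Base.co_inv F he,
        CoreP.Base.co_inv F haQ.1]
      simp
    set A := E ⊓ centralizer ({a} : Set G) with hA
    by_contra hno
    push Not at hno
    have hQA : Q ≤ A := by
      intro b hb
      refine ⟨hb.1, mem_cent.2 ?_⟩
      rcases hcm b hb.1 with h | h
      · rw [mul_inv_eq_one, mul_inv_eq_iff_eq_mul] at h; exact h.symm
      · exact absurd h (hno a haQ b hb)
    have hxa : a * x = x * a := mem_cent.1 haQ.2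
    have hAx : ∀ v ∈ A, x * v * x⁻¹ ∈ A := fun v hv => ⟨hxE v hv.1, mem_cent.2 (by
      calc x * v * x⁻¹ * a = x * v * x⁻¹ * a * x * x⁻¹ := by group
        _ = x * v * x⁻¹ * (x * a) * x⁻¹ := by rw [mul_assoc _ a x, hxa]
        _ = x * (v * a) * x⁻¹ := by group
        _ = x * (a * v) * x⁻¹ := by rw [mem_cent.1 hv.2]
        _ = a * (x * v * x⁻¹) := by rw [← mul_assoc x a v, ← hxa]; group)⟩
    obtain ⟨m, hm, hmc⟩ := (Nat.dvd_prime_pow Nat.prime_two).1
      (Bs.card_rad ▸ card_dvd_of_le (inf_le_left : A ≤ E))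
    obtain ⟨k, -, hkc, hmod⟩ := fixed_two_group hx hAx hmc
    have hAQ : A ⊓ C = Q := le_antisymm (fun v hv => ⟨hv.1.1, hv.2⟩)
      fun v hv => ⟨hQA hv, hv.2⟩
    rw [show centralizer ({x} : Set G) = C from rfl, hAQ, hQc] at hkc
    rw [← hkc] at hmod
    -- but `A` has index at most two
    have hidx : Nat.card E ≤ 2 * Nat.card A := by
      by_cases hall : E ≤ A
      · exact (Subgroup.card_le_of_le hall).trans (Nat.le_mul_of_pos_left _ two_pos)
      obtain ⟨e0, he0, he0A⟩ : ∃ e0 ∈ E, e0 ∉ A := SetLike.not_le_iff_exists.1 hall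
      have hz0 : ∀ e ∈ E, e ∉ A → a * e * a⁻¹ = z * e := fun e he heA => by
        rcases hcm e he with h | h
        · rw [mul_inv_eq_one, mul_inv_eq_iff_eq_mul] at h
          exact absurd ⟨he, mem_cent.2 h.symm⟩ heA
        · exact mul_inv_eq_iff_eq_mul.1 h
      have hcos : ∀ e ∈ E, e ∉ A → e0⁻¹ * e ∈ A := fun e he heA => by
        refine ⟨E.mul_mem (E.inv_mem he0) he, mem_cent.2 (mul_inv_eq_iff_eq_mul.1 ?_).symm⟩
        calc a * (e0⁻¹ * e) * a⁻¹ = (a * e0 * a⁻¹)⁻¹ * (a * e * a⁻¹) := by group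
          _ = e0⁻¹ * e := by rw [hz0 e0 he0 he0A, hz0 e he heA]; group
      classical
      let g : E → Bool × A := fun e =>
        if h : (e : G) ∈ A then (true, ⟨e, h⟩) else (false, ⟨_, hcos e e.2 h⟩)
      have hg : Function.Injective g := by
        intro e e' he
        simp only [g] at he
        split_ifs at he <;> simp only [Prod.mk.injEq, Bool.true_eq_false, Bool.false_eq_true,
          false_and, Subtype.mk.injEq, mul_right_inj, true_and] at he
        exacts [Subtype.ext he, Subtype.ext he]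
      have := Nat.card_le_card_of_injective g hg
      rwa [Nat.card_prod, Nat.card_eq_fintype_card (α := Bool), Fintype.card_bool] at this
    rw [Bs.card_rad, hmc] at hidx
    obtain rfl : m = 13 := by
      have h13 : ∀ m < 14, 2 ^ m % 11 = 8 % 11 → 2 ^ 13 ≤ 2 * 2 ^ m → m = 13 := by decide
      exact h13 m (by omega) hmod hidx
    -- the whole radical commutes with `a`
    have hAE : A = E := eq_of_le_of_card_ge inf_le_left (by rw [hmc, Bs.card_rad])
    have hze : ∀ v ∈ E, v * z = z * v := fun v hv => Bs.comm_z (Bs.rad_le hv)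
    have hc : (⟨a, haQ.1⟩ : ↥E) ∈ Subgroup.center ↥E := Subgroup.mem_center_iff.2 fun v =>
      Subtype.ext (mem_cent.1 (hAE.ge v.2).2)
    have hzc : (⟨z, Bs.z_rad⟩ : ↥E) ∈ Subgroup.center ↥E := Subgroup.mem_center_iff.2 fun v =>
      Subtype.ext (hze v v.2)
    obtain ⟨w, -, hu⟩ := (Nat.card_eq_two_iff' (1 : Subgroup.center ↥E)).1 hP.2.1.2
    have hwz : (⟨_, hzc⟩ : Subgroup.center ↥E) = w := hu _ fun h =>
      Bs.z_ne_one (congrArg (fun u : Subgroup.center ↥E => ((u : ↥E) : G)) h)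
    by_cases ha1 : a = 1
    · exact haz (ha1 ▸ one_mem _)
    have hwa : (⟨_, hc⟩ : Subgroup.center ↥E) = w := hu _ fun h =>
      ha1 (congrArg (fun u : Subgroup.center ↥E => ((u : ↥E) : G)) h)
    have haz' : a = z := congrArg (fun u : Subgroup.center ↥E => ((u : ↥E) : G)) (hwa.trans hwz.symm)
    exact haz (haz' ▸ mem_zpowers z)

end CfsgLib.J4Type.Eleven
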