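import Cfsg.Agent.Lib.J4Type.Eleven.Local.Outer

/-!
The case of an abelian Sylow subgroup for the prime eleven gives the abelian data.
-/

set_option autoImplicit false
set_option linter.style.haveILetI false
set_option linter.unusedSectionVars false

namespace CfsgLib.J4Type.Eleven

open Subgroup CfsgLib.J4Type.BigPrimes

/-- The divisors left by the two congruences. -/
theorem orbit_values : ∀ m < 1331, m % 24 = 10 → 31944 * m ∣ 86775571046077562880 →
    m = 10 ∨ ∃ p ∈ [23, 29, 37], p ∣ m := by decide +kernel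

theorem orbOf_eq' {G : Type*} [Group G] [Finite G] {N : Subgroup G} {y : G} {T : Set G}
    (hsub : orbOf N y ⊆ T)
    (h : T.ncard * Nat.card ↥(N ⊓ centralizer ({y} : Set G)) ≤ Nat.card N) : orbOf N y = T := by
  refine Set.eq_of_subset_of_ncard_le hsub ?_ (Set.toFinite _)
  rw [← orbOf_card N y] at h
  exact Nat.le_of_mul_le_mul_right h Nat.card_pos

namespace Setup

variable {G : Type*} [Group G] [Finite G] {z t : G} (D : Setup z t)
  (hcomm : ∀ a ∈ D.S, ∀ b ∈ D.S, a * b = b * a)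

include hcomm

theorem inf_cent_eq {s : G} (hs : s ∈ D.S) : D.S ⊓ centralizer ({s} : Set G) = D.S :=
  inf_eq_left.2 fun v hv => mem_cent.2 (hcomm v hv s hs)

theorem NS_eq' : normalizer (D.S : Set G) = D.NX := by
  refine le_antisymm ?_ D.NX_le_NS
  set N := normalizer (D.S : Set G) with hN
  set x := D.pick.x with hx
  have hCN : D.CX ≤ N := D.CX_le_NX.trans D.NX_le_NS
  set T := orbOf N x with hT
  have hstab : N ⊓ centralizer ({x} : Set G) = D.CX := inf_eq_right.2 hCN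
  have hmul := orbOf_card N x
  rw [hstab, D.shape.card_C] at hmul
  have hx1 : x ≠ 1 := ne_one_of_orderOf D.pick.ord_x (by norm_num)
  have hTS : T ⊆ (D.S : Set G) \ {1} := by
    rintro _ ⟨n, hn, rfl⟩
    exact ⟨(mem_normalizer_iff.1 hn _).1 D.shape.mem_x, fun h => hx1 (by simpa using h)⟩
  have hle := Set.ncard_le_ncard hTS (Set.toFinite _)
  rw [Set.ncard_sdiff_singleton_of_mem D.S.one_mem,
    show (D.S : Set G).ncard = 1331 by rw [← Nat.card_coe_set_eq]; exact D.shape.card_S] at hle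
  have hin : T ∩ (D.X : Set G) = orbOf D.NX x := by
    refine Set.Subset.antisymm (fun v hv => ?_) fun v hv => ?_
    · obtain ⟨n, hn, e⟩ := D.X_conj hv.2 (hTS hv.1).2
      exact ⟨n, hn, e⟩
    · obtain ⟨n, hn, rfl⟩ := hv
      exact ⟨⟨n, D.NX_le_NS hn, rfl⟩, D.conj_mem_X hn (mem_zpowers _)⟩
  have hout : 24 ∣ (T \ (D.X : Set G)).ncard := by
    refine orbit_dvd_ncard (N := D.CX) _ (fun n hn v hv => ⟨?_, fun h => hv.2 ?_⟩) fun v hv => ?_
    · obtain ⟨m, hm, rfl⟩ := hv.1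
      exact ⟨n * m, mul_mem (hCN hn) hm, by group⟩
    · exact (mem_normalizer_iff.1 (D.CX_le_NX hn) v).2 h
    · have hvS : v ∈ D.S := (hTS hv.1).1
      have h := orbOf_card D.CX v
      have heq : D.CX ⊓ centralizer ({v} : Set G) = D.S := le_antisymm
        (fun g hg => D.cent_inf_CX_le hvS hv.2 ⟨hg.2, hg.1⟩)
        fun g hg => ⟨D.shape.le_cent hg, mem_cent.2 (hcomm g hg v hvS)⟩
      rw [heq, D.shape.card_S, D.shape.card_C] at h
      omega
  have hsplit := Set.ncard_inter_add_ncard_sdiff_eq_ncard T (D.X : Set G)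
  rw [hin, D.card_orb_NX_X] at hsplit
  have hdvd : 31944 * T.ncard ∣ 86775571046077562880 := by
    have h := card_subgroup_dvd_card N
    rw [← hmul, D.env.facts.card, mul_comm] at h
    exact h
  rcases orbit_values T.ncard (by omega) (by omega) hdvd with h10 | ⟨p, hp, hpm⟩
  · intro g hg
    have hgT : g * x * g⁻¹ ∈ T := ⟨g, hg, rfl⟩
    have hsub : orbOf D.NX x ⊆ T := by rw [← hin]; exact Set.inter_subset_left
    have heq := Set.eq_of_subset_of_ncard_le hsub (by rw [h10, D.card_orb_NX_X]) (Set.toFinite _)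
    obtain ⟨n, hn, e⟩ := heq.ge hgT
    have hc : n⁻¹ * g ∈ D.CX := mem_cent.2 (by
      calc n⁻¹ * g * x = n⁻¹ * (g * x * g⁻¹) * g := by group
        _ = n⁻¹ * (n * x * n⁻¹) * g := by rw [e]
        _ = x * (n⁻¹ * g) := by group)
    simpa using mul_mem hn (D.CX_le_NX hc)
  · exfalso
    have hfacts : p.Prime ∧ p ∈ bigList ∧ 1331 % p ≠ 1 ∧ Nat.gcd 1331 p = 1 := by
      simp only [List.mem_cons, List.not_mem_nil, or_false] at hp
      rcases hp with rfl | rfl | rfl <;> norm_num [bigList]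
    obtain ⟨hpp, hpb, hmod, hgcd⟩ := hfacts
    haveI : Fact p.Prime := ⟨hpp⟩
    obtain ⟨⟨f, hf⟩, hfo⟩ := exists_prime_orderOf_dvd_card' (G := N) p
      (by rw [← hmul]; exact hpm.mul_right _)
    rw [Subgroup.orderOf_mk] at hfo
    have h := subgroup_modEq_fixed hfo (S := D.S) (fun v hv => (mem_normalizer_iff.1 hf v).1 hv)
    have h1 : Nat.card ↥(D.S ⊓ centralizer ({f} : Set G)) ∣ 1331 :=
      D.shape.card_S ▸ card_dvd_of_le inf_le_left
    have h2 : Nat.card ↥(D.S ⊓ centralizer ({f} : Set G)) ∣ p := by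
      refine (card_dvd_of_le inf_le_right).trans (dvd_of_eq ?_)
      rw [no_big D.env hpb hfo, Nat.card_zpowers, hfo]
    have h3 := Nat.dvd_gcd h1 h2
    rw [hgcd] at h3
    rw [Nat.dvd_one.1 h3, D.shape.card_S, Nat.ModEq, Nat.mod_eq_of_lt hpp.one_lt] at h
    exact hmod h

/-- An element outside `X` commutes with no conjugate of `z`. -/
theorem not_near {s : G} (hs : s ∈ D.S) (hsX : s ∉ D.X) : ¬ NearZ z s := by
  haveI : Fact (Nat.Prime 11) := ⟨by norm_num⟩
  rintro ⟨g, hg⟩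
  have hs1 : s ≠ 1 := fun h => hsX (h ▸ one_mem _)
  have hs' : g⁻¹ * s * g ∈ centralizer ({z} : Set G) := mem_cent_conj.1 hg
  have hso : orderOf (g⁻¹ * s * g) = 11 := by
    simpa using (orderOf_conj' g⁻¹ s).trans (D.orderOf_S hs hs1)
  obtain ⟨h, -, he⟩ := exists_conj_zpowers (p := 11) (H := centralizer ({z} : Set G))
    (by rw [D.env.card_cz]; norm_num [zOrder]) (by rw [D.env.card_cz]; norm_num [zOrder])
    hs' D.pick.mem_x hso D.pick.ord_x
  set c := g * h with hc
  -- `s` generates the conjugate of `X` by `c`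
  have hsc : zpowers (c * D.pick.x * c⁻¹) = zpowers s := by
    have h1 := congrArg (Subgroup.map (MulAut.conj g).toMonoidHom) he
    rw [MonoidHom.map_zpowers, MonoidHom.map_zpowers] at h1
    convert h1 using 2 <;> simp [hc, mul_assoc]
  have hcent : centralizer ({s} : Set G) = centralizer ({c * D.pick.x * c⁻¹} : Set G) := by
    rw [← cent_zpowers s, ← hsc, cent_zpowers]
  have hSc : D.S.map (MulAut.conj c⁻¹).toMonoidHom ≤ D.S := by
    refine D.le_S ?_ (D.isPGroup_S.map _)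
    rintro _ ⟨v, hv, rfl⟩
    have hv' : v ∈ centralizer ({c * D.pick.x * c⁻¹} : Set G) :=
      hcent ▸ mem_cent.2 (hcomm v hv s hs)
    have h2 := mem_cent_conj.1 hv'
    simpa using h2
  have hcN : c⁻¹ ∈ normalizer (D.S : Set G) := by
    refine mem_normalizer_iff_map_conj_eq.2 ?_
    exact eq_of_le_of_card_ge hSc (card_map_conj _ _).ge
  rw [D.NS_eq' hcomm, inv_mem_iff] at hcN
  have hm : c * D.pick.x * c⁻¹ ∈ D.X := D.conj_mem_X hcN (mem_zpowers _)
  exact hsX (zpowers_le.1 (hsc.ge.trans (zpowers_le.2 hm)))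

theorem cent_out {s : G} (hs : s ∈ D.S) (hsX : s ∉ D.X) :
    centralizer ({s} : Set G) ≤ D.NX ∧
      (Nat.card (centralizer ({s} : Set G)) = 1331 ∨
        Nat.card (centralizer ({s} : Set G)) = 2662) := by
  set C := centralizer ({s} : Set G) with hC
  have hs1 : s ≠ 1 := fun h => hsX (h ▸ one_mem _)
  have hd := (cent_eleven_dvd D.env (D.orderOf_S hs hs1)).2 (D.not_near hcomm hs hsX)
  have hSC : D.S ≤ C := fun v hv => mem_cent.2 (hcomm v hv s hs)
  have h1331 := card_dvd_of_le hSC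
  rw [D.shape.card_S] at h1331
  obtain ⟨m, hm⟩ := h1331
  have hm2 : m ∣ 2 := by
    rw [← hC, hm, mul_comm 2 1331] at hd
    exact Nat.dvd_of_mul_dvd_mul_left (by norm_num) hd
  have hidx : (D.S.subgroupOf C).index = m := by
    have h := Subgroup.card_mul_index (D.S.subgroupOf C)
    rw [Nat.card_congr (subgroupOfEquivOfLe hSC).toEquiv, D.shape.card_S, hm] at h
    omega
  have hn : (D.S.subgroupOf C).Normal := by
    rcases (Nat.dvd_prime Nat.prime_two).1 hm2 with rfl | rfl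
    · rw [Subgroup.index_eq_one.1 hidx]; infer_instance
    · exact Subgroup.normal_of_index_eq_two hidx
  refine ⟨D.NS_eq' hcomm ▸ (normal_subgroupOf_iff_le_normalizer hSC).1 hn, ?_⟩
  rcases (Nat.dvd_prime Nat.prime_two).1 hm2 with rfl | rfl
  · exact Or.inl (by rw [hm])
  · exact Or.inr (by rw [hm])

/-- The part inverted by `z`. -/
def W : Subgroup G where
  carrier := invSet D.S z
  one_mem' := ⟨one_mem _, by group⟩
  mul_mem' := by
    rintro a b ⟨ha, hai⟩ ⟨hb, hbi⟩
    refine ⟨mul_mem ha hb, ?_⟩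
    rw [show z * (a * b) * z⁻¹ = (z * a * z⁻¹) * (z * b * z⁻¹) by group, hai, hbi, mul_inv_rev]
    exact hcomm _ (inv_mem ha) _ (inv_mem hb)
  inv_mem' := by
    rintro a ⟨ha, hai⟩
    exact ⟨inv_mem ha, by rw [← conj_inv, hai]⟩

theorem mem_W {s : G} : s ∈ W D hcomm ↔ s ∈ D.S ∧ z * s * z⁻¹ = s⁻¹ := Iff.rfl

theorem W_le_S : W D hcomm ≤ D.S := fun _ h => h.1

theorem W_inter : ∀ {q : G}, q ∈ W D hcomm → q ∈ D.X → q = 1 := fun hq hX =>
  invSet_inter (D.shape.fix z (mem_cent_symm.1 D.pick.mem_x) D.env.ord_z) D.pick.ord_x hq hX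

theorem exists_split {s : G} (hs : s ∈ D.S) :
    ∃ w ∈ W D hcomm, ∃ q ∈ D.X, s = w * q := by
  have hzC : z ∈ D.CX := mem_cent_symm.1 D.pick.mem_x
  exact (decomp D.pick.ord_x D.env.ord_z D.shape.le_cent (D.shape.cent_le_norm hzC) D.shape.mem_x
    hzC (D.shape.fix z hzC D.env.ord_z)).2 s hs

theorem norm_W : D.NX ≤ normalizer ((W D hcomm : Subgroup G) : Set G) := by
  have hzC : z ∈ D.CX := mem_cent_symm.1 D.pick.mem_x
  have key : ∀ g ∈ D.NX, ∀ w ∈ W D hcomm, g * w * g⁻¹ ∈ W D hcomm := by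
    rintro g hg w ⟨hw, hwi⟩
    have hgS : ∀ v ∈ D.S, g * v * g⁻¹ ∈ D.S := fun v hv =>
      (mem_normalizer_iff.1 (D.NX_le_NS hg) v).1 hv
    obtain ⟨s, hs, e⟩ := D.shape.class_eq (g * z * g⁻¹) (D.conj_mem_CX hg hzC)
      (by rw [orderOf_conj', D.env.ord_z])
    refine ⟨hgS w hw, ?_⟩
    have h1 : (g * z * g⁻¹) * (g * w * g⁻¹) * (g * z * g⁻¹)⁻¹ = (g * w * g⁻¹)⁻¹ := by
      rw [show g * z * g⁻¹ * (g * w * g⁻¹) * (g * z * g⁻¹)⁻¹ = g * (z * w * z⁻¹) * g⁻¹ by group,
        hwi]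
      group
    rw [← e] at h1
    have hcs : ∀ v ∈ D.S, s * v * s⁻¹ = v := fun v hv => by
      rw [hcomm s hs v hv, mul_inv_cancel_right]
    have hcs' : ∀ v ∈ D.S, s⁻¹ * v * s = v := fun v hv => by
      rw [mul_assoc, hcomm v hv s hs, inv_mul_cancel_left]
    have hzS : z * (g * w * g⁻¹) * z⁻¹ ∈ D.S :=
      (mem_normalizer_iff.1 (D.shape.cent_le_norm hzC) _).1 (hgS w hw)
    rw [show s * z * s⁻¹ * (g * w * g⁻¹) * (s * z * s⁻¹)⁻¹ =
      s * (z * (s⁻¹ * (g * w * g⁻¹) * s) * z⁻¹) * s⁻¹ by group, hcs' _ (hgS w hw),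
      hcs _ hzS] at h1
    exact h1
  intro g hg
  refine mem_normalizer_iff.2 fun w => ⟨key g hg w, fun h => ?_⟩
  have := key g⁻¹ (inv_mem hg) _ h
  rwa [show g⁻¹ * (g * w * g⁻¹) * g⁻¹⁻¹ = w by group] at this

/-- An involution outside the centraliser of `x` fixing an element of `S` fixes its two parts. -/
theorem split_fixed {u w q : G} (huN : u ∈ D.NX) (hw : w ∈ W D hcomm) (hq : q ∈ D.X)
    (h : u * (w * q) * u⁻¹ = w * q) : u * w * u⁻¹ = w ∧ u * q * u⁻¹ = q := by
  have hw' : u * w * u⁻¹ ∈ W D hcomm := (mem_normalizer_iff.1 (D.norm_W hcomm huN) w).1 hw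
  have hq' : u * q * u⁻¹ ∈ D.X := D.conj_mem_X huN hq
  have he : (u * w * u⁻¹) * (u * q * u⁻¹) = w * q := by rw [← h]; group
  have h2 : w⁻¹ * (u * w * u⁻¹) = q * (u * q * u⁻¹)⁻¹ := by
    rw [eq_mul_inv_iff_mul_eq, mul_assoc, he, inv_mul_cancel_left]
  have h3 := D.W_inter hcomm (mul_mem (inv_mem hw) hw') (h2 ▸ mul_mem hq (inv_mem hq'))
  have h4 := (inv_mul_eq_one.1 h3).symm
  refine ⟨h4, ?_⟩
  rw [h4] at he
  exact mul_left_cancel he

theorem exists_abData : Nonempty (Σ u : G, AbData z u) := by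
  obtain ⟨y, hy, hyX, u, huo, htu, hyu⟩ := D.exists_second
  obtain ⟨hle, hcard⟩ := D.cent_out hcomm hy hyX
  have huN : u ∈ D.NX := hle (mem_cent_symm.1 hyu)
  have huC : u ∉ D.CX := fun h => hyX ((D.shape.fix u h huo).le ⟨hy, hyu⟩)
  have hy2662 : Nat.card (centralizer ({y} : Set G)) = 2662 := by
    refine hcard.resolve_left fun h => ?_
    have h2 := Subgroup.orderOf_dvd_natCard _ (mem_cent_symm.1 hyu)
    rw [huo, h] at h2
    norm_num at h2
  obtain ⟨w, hw, q, hq, hyeq⟩ := D.exists_split hcomm hy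
  have hfixq : q = 1 := by
    obtain ⟨-, h2⟩ := D.split_fixed hcomm huN hw hq (by
      rw [← hyeq, ← mem_cent.1 hyu, mul_inv_cancel_right])
    by_contra hq1
    exact huC (D.cent_of_X hq hq1 ▸ mem_cent.2 (mul_inv_eq_iff_eq_mul.1 h2))
  rw [hfixq, mul_one] at hyeq
  have hyW : y ∈ W D hcomm := hyeq ▸ hw
  have hy1 : y ≠ 1 := fun h => hyX (h ▸ one_mem _)
  have hWc : Nat.card (W D hcomm) = 121 := by
    rw [show Nat.card (W D hcomm) = (invSet D.S z).ncard from Nat.card_coe_set_eq _,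
      D.shape.inv_card]
  have horb : orbOf D.NX y = ((W D hcomm : Subgroup G) : Set G) \ {1} := by
    refine orbOf_eq' ?_ ?_
    · rintro _ ⟨n, hn, rfl⟩
      exact ⟨(mem_normalizer_iff.1 (D.norm_W hcomm hn) y).1 hyW, fun h => hy1 (by simpa using h)⟩
    · rw [Set.ncard_sdiff_singleton_of_mem (W D hcomm).one_mem, ← Nat.card_coe_set_eq,
        show Nat.card ↥((W D hcomm : Subgroup G) : Set G) = 121 from hWc,
        show D.NX ⊓ centralizer ({y} : Set G) = centralizer ({y} : Set G) from inf_eq_right.2 hle,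
        hy2662, D.card_NX]
  have hNS := D.NS_eq' hcomm
  have hcle : ∀ s ∈ D.S, s ≠ 1 → centralizer ({s} : Set G) ≤ D.NX := fun s hs hs1 => by
    by_cases hsX : s ∈ D.X
    · rw [D.cent_of_X hsX hs1]; exact D.CX_le_NX
    · exact (D.cent_out hcomm hs hsX).1
  refine ⟨⟨u, {
    S := D.S
    X := D.X
    W := W D hcomm
    card_G := D.env.facts.card
    ord_z := D.env.ord_z
    ord_t := huo
    not_conj := fun h => D.env.not_conj (h.trans htu.symm)
    two_classes := fun v hv => (D.env.two_classes v hv).imp id fun h => htu.symm.trans h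
    card_cz := D.env.card_cz
    card_ct := by
      obtain ⟨c, hc⟩ := isConj_iff.1 htu
      rw [← hc, card_cent_conj, D.env.card_ct]
    card_S := by rw [D.shape.card_S]; norm_num
    comm := hcomm
    pow_eleven := D.shape.pow_eleven
    X_le := D.X_le_S
    W_le := D.W_le_S hcomm
    card_X := D.card_X
    card_W := by rw [hWc]; norm_num
    disjoint := eq_bot_iff.2 fun v hv => mem_bot.2 (D.W_inter hcomm hv.2 hv.1)
    card_N := by rw [hNS, D.card_NX]
    norm_X := hNS.le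
    norm_W := hNS ▸ D.norm_W hcomm
    ti := ?_
    cent_le := fun s hs hs1 => hNS.symm ▸ hcle s hs hs1
    cent_free := ?_
    card_cent_X := fun v hv hv1 => by rw [D.cent_of_X hv hv1, D.shape.card_C]
    card_cent_W := ?_
    t_norm := hNS.symm ▸ huN
    t_inv_X := fun v hv => D.inverts huo huN huC hv
    t_fix := ⟨y, hyW, hy1, (mem_cent.1 hyu).symm⟩
    card_fix := ?_ }⟩⟩
  · intro g hg s hs hgs
    haveI : Fact (Nat.Prime 11) := ⟨by norm_num⟩
    by_contra hs1
    rw [hNS] at hg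
    set s' := g * s * g⁻¹ with hs'
    have hs'1 : s' ≠ 1 := fun h => hs1 (by rw [hs'] at h; simpa using h)
    have hC := hcle s' hgs hs'1
    have hgS : ∀ v ∈ D.S, g * v * g⁻¹ ∈ D.NX := fun v hv => hC (mem_cent.2 (by
      rw [hs']
      calc g * v * g⁻¹ * (g * s * g⁻¹) = g * (v * s) * g⁻¹ := by group
        _ = g * (s * v) * g⁻¹ := by rw [hcomm v hv s hs]
        _ = g * s * g⁻¹ * (g * v * g⁻¹) := by group))
    refine hg (hNS ▸ mem_normalizer_iff_map_conj_eq.2 ?_)
    have hle' : D.S.map (MulAut.conj g).toMonoidHom ≤ normalizer (D.S : Set G) := by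
      rintro _ ⟨v, hv, rfl⟩; rw [hNS]; exact hgS v hv
    have hp := (D.isPGroup_S.map (MulAut.conj g).toMonoidHom).to_sup_of_normal_right' D.isPGroup_S hle'
    obtain ⟨j, hj⟩ := IsPGroup.iff_card.1 hp
    have hd := card_dvd_of_le (sup_le (hle'.trans hNS.le) (D.shape.le_cent.trans D.CX_le_NX) :
      D.S.map (MulAut.conj g).toMonoidHom ⊔ D.S ≤ D.NX)
    rw [hj, D.card_NX] at hd
    have h3 : j ≤ 3 := by
      by_contra h4
      exact absurd ((pow_dvd_pow 11 (show 4 ≤ j by omega)).trans hd) (by norm_num)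
    have hsmall := Nat.pow_le_pow_right (show 0 < 11 by norm_num) h3
    have h5 := eq_of_le_of_card_ge (le_sup_left : D.S.map (MulAut.conj g).toMonoidHom ≤ _)
      (by rw [hj, card_map_conj, D.shape.card_S]; omega : _ ≤ Nat.card _)
    have h6 := eq_of_le_of_card_ge (le_sup_right : D.S ≤ D.S.map (MulAut.conj g).toMonoidHom ⊔ D.S)
      (by rw [hj, D.shape.card_S]; omega)
    exact h5.trans h6.symm
  · intro s hs hsX hsW
    obtain ⟨hleS, hc⟩ := D.cent_out hcomm hs hsX
    have h1331 : Nat.card (centralizer ({s} : Set G)) = 1331 := by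
      refine hc.resolve_right fun h => ?_
      haveI : Fact (Nat.Prime 2) := ⟨Nat.prime_two⟩
      obtain ⟨v, hvo, hvN, hvC, hvs⟩ := D.exists_outer hs hsX
        (by rw [inf_eq_right.2 hleS, h]; norm_num)
      obtain ⟨a, ha, b, hb, hab⟩ := D.exists_split hcomm hs
      obtain ⟨-, h2⟩ := D.split_fixed hcomm hvN ha hb (by
        rw [← hab, ← mem_cent.1 hvs, mul_inv_cancel_right])
      have hb1 : b = 1 := by
        by_contra hb1
        exact hvC (D.cent_of_X hb hb1 ▸ mem_cent.2 (mul_inv_eq_iff_eq_mul.1 h2))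
      rw [hb1, mul_one] at hab
      exact hsW (hab ▸ ha)
    exact (eq_of_le_of_card_ge (fun v hv => mem_cent.2 (hcomm v hv s hs))
      (by rw [h1331, D.shape.card_S])).ge
  · intro v hv hv1
    obtain ⟨n, -, rfl⟩ := (horb.ge ⟨hv, hv1⟩ : v ∈ orbOf D.NX y)
    rw [card_cent_conj, hy2662]
  · intro v hv hvt
    rw [hNS] at hv
    obtain ⟨c, hc⟩ := isConj_iff.1 hvt
    have hvo : orderOf v = 2 := by rw [← hc, orderOf_conj', huo]
    refine D.card_fix_outer hvo hv fun hC => D.env.not_conj ?_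
    exact (D.shape.isConj v hC hvo).trans (htu.trans hvt).symm

end Setup

end CfsgLib.J4Type.Eleven
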