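import Cfsg.Agent.Lib.J4Type.Eleven.Local.Env

/-!
The order of the centraliser of an element of order eleven divides `24 * 1331`, and `2 * 1331` if
the element commutes with no conjugate of `z`.
-/

set_option autoImplicit false
set_option linter.style.haveILetI false
set_option linter.unusedSectionVars false

namespace CfsgLib.J4Type.Eleven

open Subgroup CfsgLib.J4Type.BigPrimes

variable {G : Type*} [Group G] [Finite G] {z t : G} (E : Env z t)

include E

/-- An involution commuting with an element of order eleven. -/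
theorem invol_cases {u y : G} (hu : orderOf u = 2) (hy : orderOf y = 11)
    (hyu : y ∈ centralizer ({u} : Set G)) :
    (IsConj z u ∧ Nat.card ↥(centralizer ({u} : Set G) ⊓ centralizer ({y} : Set G)) = 264) ∨
      (IsConj t u ∧ Nat.card ↥(centralizer ({u} : Set G) ⊓ centralizer ({y} : Set G)) = 22) := by
  have key : ∀ v : G, IsConj v u → ∀ n : ℕ,
      (∀ w : G, orderOf w = 11 → w ∈ centralizer ({v} : Set G) →
        Nat.card ↥(centralizer ({v} : Set G) ⊓ centralizer ({w} : Set G)) = n) →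
      Nat.card ↥(centralizer ({u} : Set G) ⊓ centralizer ({y} : Set G)) = n := by
    intro v hv n hn
    obtain ⟨c, rfl⟩ := isConj_iff.1 hv
    have h1 := hn (c⁻¹ * y * c) (by simpa using (orderOf_conj' c⁻¹ y).trans hy)
      (mem_cent_conj.1 hyu)
    rw [← h1, ← card_cent_inf_conj c v (c⁻¹ * y * c),
      show c * (c⁻¹ * y * c) * c⁻¹ = y by group]
  rcases E.two_classes u hu with h | h
  · exact Or.inl ⟨h, key z h 264 E.cz_eleven⟩
  · exact Or.inr ⟨h, key t h 22 E.ct_eleven⟩

/-- The elements commuting with an element of order eleven that commutes with a conjugate of `z`. -/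
def NearZ (z y : G) : Prop := ∃ g : G, y ∈ centralizer ({g * z * g⁻¹} : Set G)

theorem two_part {y : G} (hy : orderOf y = 11) {T : Subgroup G}
    (hT : T ≤ centralizer ({y} : Set G)) (h2 : IsPGroup 2 T) :
    Nat.card T ∣ 8 ∧ (¬ NearZ z y → Nat.card T ∣ 2) := by
  haveI : Fact (Nat.Prime 2) := ⟨Nat.prime_two⟩
  obtain ⟨n, hn⟩ := IsPGroup.iff_card.1 h2
  rcases Nat.eq_zero_or_pos n with rfl | hn0
  · rw [hn, pow_zero]; exact ⟨one_dvd _, fun _ => one_dvd _⟩
  haveI : Nontrivial T := Finite.one_lt_card_iff_nontrivial.1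
    (by rw [hn]; exact Nat.one_lt_pow hn0.ne' (by norm_num))
  haveI := h2.center_nontrivial
  obtain ⟨m, hm⟩ := IsPGroup.iff_card.1 (h2.to_subgroup (Subgroup.center T))
  have hm0 : 2 ∣ Nat.card (Subgroup.center T) := by
    have h1 := Finite.one_lt_card (α := Subgroup.center T)
    rcases m with _ | m
    · rw [hm] at h1; norm_num at h1
    · rw [hm, pow_succ]; exact dvd_mul_left 2 _
  obtain ⟨⟨⟨u, huT⟩, huc⟩, huo⟩ :=
    exists_prime_orderOf_dvd_card' (G := Subgroup.center T) 2 hm0
  rw [Subgroup.orderOf_mk, Subgroup.orderOf_mk] at huo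
  have hle : T ≤ centralizer ({u} : Set G) ⊓ centralizer ({y} : Set G) := fun a ha =>
    ⟨mem_cent.2 (congrArg Subtype.val (mem_center_iff.1 huc ⟨a, ha⟩)), hT ha⟩
  have hyu : y ∈ centralizer ({u} : Set G) := mem_cent_symm.1 (hT huT)
  have hd := card_dvd_of_le hle
  have hcop : Nat.Coprime (Nat.card T) 33 := by rw [hn]; exact Nat.Coprime.pow_left _ (by norm_num)
  have hcop' : Nat.Coprime (Nat.card T) 11 := by rw [hn]; exact Nat.Coprime.pow_left _ (by norm_num)
  rcases invol_cases E huo hy hyu with ⟨hc, h⟩ | ⟨-, h⟩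
  · rw [h, show 264 = 8 * 33 by norm_num] at hd
    refine ⟨hcop.dvd_of_dvd_mul_right hd, fun hno => absurd ?_ hno⟩
    obtain ⟨g, rfl⟩ := isConj_iff.1 hc
    exact ⟨g, hyu⟩
  · rw [h, show 22 = 2 * 11 by norm_num] at hd
    have := hcop'.dvd_of_dvd_mul_right hd
    exact ⟨this.trans (by norm_num), fun _ => this⟩

theorem no_big {p : ℕ} (hp : p ∈ bigList) {g : G} (hg : orderOf g = p) :
    centralizer ({g} : Set G) = zpowers g := by
  obtain ⟨P, hP⟩ := exists_sylow E.facts hp (U := zpowers g) (by rw [Nat.card_zpowers, hg])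
  have h : centralizer ((P : Subgroup G) : Set G) = (P : Subgroup G) := by
    simp only [bigList, List.mem_cons, List.not_mem_nil, or_false] at hp
    rcases hp with rfl | rfl | rfl | rfl | rfl
    exacts [(main E.facts (e := 22) (by simp) P).1, (main E.facts (e := 28) (by simp) P).1,
      (main E.facts (e := 10) (by simp) P).1, (main E.facts (e := 12) (by simp) P).1,
      (main E.facts (e := 14) (by simp) P).1]
  rwa [hP, cent_zpowers] at h

theorem cent_eleven_dvd {y : G} (hy : orderOf y = 11) :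
    Nat.card (centralizer ({y} : Set G)) ∣ 24 * 1331 ∧
      (¬ NearZ z y → Nat.card (centralizer ({y} : Set G)) ∣ 2 * 1331) := by
  set C := centralizer ({y} : Set G) with hC
  have hno : ∀ q : ℕ, q.Prime → q ∈ ([5, 7, 23, 29, 31, 37, 43] : List ℕ) →
      ¬ q ∣ Nat.card C := by
    intro q hq hmem h
    haveI : Fact q.Prime := ⟨hq⟩
    obtain ⟨⟨f, hf⟩, hfo⟩ := exists_prime_orderOf_dvd_card' (G := C) q h
    rw [Subgroup.orderOf_mk] at hfo
    have hyf : y ∈ centralizer ({f} : Set G) := mem_cent_symm.1 hf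
    have h11 : 11 ∣ Nat.card (centralizer ({f} : Set G)) :=
      hy ▸ Subgroup.orderOf_dvd_natCard _ hyf
    by_cases hsmall : q = 5 ∨ q = 7
    · exact E.facts.not_eleven f (hfo.symm ▸ hsmall) h11
    · have hqb : q ∈ bigList := by
        simp only [List.mem_cons, List.not_mem_nil, or_false] at hmem
        simp only [bigList, List.mem_cons, List.not_mem_nil, or_false]
        omega
      rw [no_big E hqb hfo, Nat.card_zpowers, hfo] at h11
      have := (Nat.prime_dvd_prime_iff_eq (by norm_num) hq).1 h11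
      subst this
      norm_num [bigList] at hqb
  have h9 : ¬ 9 ∣ Nat.card C := by
    intro h9
    haveI : Fact (Nat.Prime 3) := ⟨by norm_num⟩
    obtain ⟨T, hT⟩ := Sylow.exists_subgroup_card_pow_prime 3 (n := 2) (G := C) (by simpa using h9)
    obtain ⟨⟨s, hs⟩, hso⟩ := exists_prime_orderOf_dvd_card' (G := T) 3 (by rw [hT]; norm_num)
    rw [Subgroup.orderOf_mk] at hso
    have hcomm : IsMulCommutative T := IsPGroup.isMulCommutative_of_card_eq_prime_sq (p := 3) hT
    have hle : T.map C.subtype ≤ centralizer ({(s : G)} : Set G) ⊓ C := by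
      rintro _ ⟨a, ha, rfl⟩
      exact ⟨mem_cent.2 (congrArg (fun w : T => ((w : C) : G))
        (mul_comm' (⟨a, ha⟩ : T) ⟨s, hs⟩)), a.2⟩
    have hd := (card_dvd_of_le hle).trans
      (E.facts.three_eleven (s : G) y (by rwa [Subgroup.orderOf_coe]) hy (mem_cent.1 s.2))
    rw [← Nat.card_congr (T.equivMapOfInjective _ C.subtype_injective).toEquiv, hT] at hd
    norm_num at hd
  have hdG : Nat.card C ∣ 2 ^ 21 * 3 ^ 3 * 11 ^ 3 * (5 * 7 * 23 * 29 * 31 * 37 * 43) :=
    (card_subgroup_dvd_card C).trans (dvd_of_eq (by rw [E.facts.card]; norm_num [bigOrder]))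
  have hcop : Nat.Coprime (Nat.card C) (5 * 7 * 23 * 29 * 31 * 37 * 43) := by
    have h : ∀ q, q.Prime → q ∈ ([5, 7, 23, 29, 31, 37, 43] : List ℕ) →
        Nat.Coprime (Nat.card C) q :=
      fun q hq hm => ((hq.coprime_iff_not_dvd).2 (hno q hq hm)).symm
    refine Nat.Coprime.mul_right (Nat.Coprime.mul_right (Nat.Coprime.mul_right (Nat.Coprime.mul_right
      (Nat.Coprime.mul_right (Nat.Coprime.mul_right (h 5 (by norm_num) (by simp))
      (h 7 (by norm_num) (by simp))) (h 23 (by norm_num) (by simp)))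
      (h 29 (by norm_num) (by simp))) (h 31 (by norm_num) (by simp)))
      (h 37 (by norm_num) (by simp))) (h 43 (by norm_num) (by simp))
  obtain ⟨d12, d3, h12, h3, hd⟩ := Nat.dvd_mul.1 (hcop.dvd_of_dvd_mul_right hdG)
  obtain ⟨d1, d2, h1, h2, hd'⟩ := Nat.dvd_mul.1 h12
  obtain ⟨i, -, rfl⟩ := (Nat.dvd_prime_pow Nat.prime_two).1 h1
  obtain ⟨j, -, rfl⟩ := (Nat.dvd_prime_pow Nat.prime_three).1 h2
  subst hd'
  have hj : j ≤ 1 := by
    by_contra hj
    exact h9 (hd ▸ ((pow_dvd_pow 3 (show 2 ≤ j by omega)).trans (dvd_mul_left _ _)).mul_right _)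
  haveI : Fact (Nat.Prime 2) := ⟨Nat.prime_two⟩
  obtain ⟨T, hT⟩ := Sylow.exists_subgroup_card_pow_prime 2 (n := i) (G := C)
    (hd ▸ (dvd_mul_right _ _).mul_right _)
  have htwo := two_part E hy (T := T.map C.subtype) (map_subtype_le _)
    ((IsPGroup.of_card hT).map _)
  rw [← Nat.card_congr (T.equivMapOfInjective _ C.subtype_injective).toEquiv, hT] at htwo
  have h3' : 3 ^ j ∣ 3 := by simpa using pow_dvd_pow 3 hj
  refine ⟨hd ▸ mul_dvd_mul (mul_dvd_mul htwo.1 h3') h3, fun hne => ?_⟩
  have hj0 : j = 0 := by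
    by_contra hj0
    haveI : Fact (Nat.Prime 3) := ⟨by norm_num⟩
    obtain ⟨⟨s, hs⟩, hso⟩ := exists_prime_orderOf_dvd_card' (G := C) 3
      (hd ▸ ((dvd_pow_self 3 hj0).trans (dvd_mul_left _ _)).mul_right _)
    rw [Subgroup.orderOf_mk] at hso
    exact hne (E.three s y hso hy (mem_cent.1 hs))
  rw [← hd, hj0, pow_zero, mul_one]
  exact mul_dvd_mul (htwo.2 hne) h3

end CfsgLib.J4Type.Eleven
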