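import Cfsg.Agent.Lib.J4Type.Eleven.Local.Bounds

/-!
The centraliser of an element of order eleven commuting with `z`: a normal subgroup of order `1331`
and exponent eleven, with a single class of involutions outside it.
-/

set_option autoImplicit false
set_option linter.style.haveILetI false
set_option linter.unusedSectionVars false

namespace CfsgLib.J4Type.Eleven

open Subgroup CfsgLib.J4Type.BigPrimes

variable {G : Type*} [Group G] [Finite G]

/-- The elements of `S` inverted by `u`. -/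
def invSet (S : Subgroup G) (u : G) : Set G := {p | p ∈ S ∧ u * p * u⁻¹ = p⁻¹}

/-- An involution acting on a subgroup with fixed points a central subgroup of order eleven. -/
theorem decomp {x u : G} {S : Subgroup G} (hx : orderOf x = 11) (hu : orderOf u = 2)
    (hS : S ≤ centralizer ({x} : Set G)) (hn : u ∈ normalizer (S : Set G))
    (hxS : x ∈ S) (hux : u ∈ centralizer ({x} : Set G))
    (hfix : S ⊓ centralizer ({u} : Set G) = zpowers x) :
    (invSet S u).ncard * 11 = Nat.card S ∧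
    ∀ s ∈ S, ∃ p ∈ invSet S u, ∃ w ∈ zpowers x, s = p * w := by
  classical
  set X := zpowers x with hX
  have hXS : X ≤ S := zpowers_le.2 hxS
  have hcS : ∀ w ∈ X, ∀ s ∈ S, s * w = w * s := by
    intro w hw s hs
    obtain ⟨i, rfl⟩ := mem_zpowers_iff.1 hw
    exact (((show Commute s x from mem_cent.1 (hS hs))).zpow_right i).eq
  have huX : ∀ w ∈ X, u * w * u⁻¹ = w := by
    intro w hw
    obtain ⟨i, rfl⟩ := mem_zpowers_iff.1 hw
    rw [((show Commute u x from mem_cent.1 hux).zpow_right i).eq, mul_inv_cancel_right]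
  have huS : ∀ s ∈ S, u * s * u⁻¹ ∈ S := fun s hs => (mem_normalizer_iff.1 hn s).1 hs
  have hui := inv_eq_self_of_orderOf hu
  have huu := sq_eq_one_of_orderOf hu
  have huu' : ∀ a : G, u * (u * a) = a := fun a => by rw [← mul_assoc, huu, one_mul]
  let f : S → invSet S u := fun s => ⟨u * (s : G) * u⁻¹ * (s : G)⁻¹,
    ⟨mul_mem (huS s s.2) (inv_mem s.2), by simp [mul_assoc, hui, huu']⟩⟩
  let g : invSet S u × X → S := fun q => ⟨(q.1 : G) * q.2, mul_mem q.1.2.1 (hXS q.2.2)⟩
  have hg : Function.Injective g := by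
    rintro ⟨⟨p, hp, hpi⟩, ⟨a, ha⟩⟩ ⟨⟨q, hq, hqi⟩, ⟨b, hb⟩⟩ h
    have h' : p * a = q * b := congrArg Subtype.val h
    set w := b * a⁻¹ with hw
    have hwX : w ∈ X := mul_mem hb (inv_mem ha)
    have hpq : p = q * w := by
      rw [hw, ← mul_assoc, eq_mul_inv_iff_mul_eq]; exact h'
    have h2 : p⁻¹ = q⁻¹ * w := by
      rw [← hpi, hpq, show u * (q * w) * u⁻¹ = (u * q * u⁻¹) * (u * w * u⁻¹) by group, hqi,
        huX w hwX]
    have hw2 : w * w = 1 := by
      rw [hpq, mul_inv_rev] at h2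
      have h3 := congrArg (fun v => w * v * q) h2
      simp only [mul_assoc, mul_inv_cancel_left, inv_mul_cancel] at h3
      rw [← hcS w hwX q hq, inv_mul_cancel_left] at h3
      exact h3.symm
    have hw1 : w = 1 := by
      have h4 : orderOf w ∣ 2 := orderOf_dvd_of_pow_eq_one (by rw [pow_two]; exact hw2)
      have h5 : orderOf w ∣ 11 := hx ▸ orderOf_dvd_of_mem_zpowers hwX
      exact orderOf_eq_one_iff.1 (Nat.eq_one_of_dvd_coprimes (by norm_num) h4 h5)
    rw [hw1, mul_one] at hpq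
    subst hpq
    simp only [mul_right_inj] at h'
    subst h'
    rfl
  have hXc : Nat.card X = 11 := by rw [hX, Nat.card_zpowers, hx]
  have h1 := Nat.card_le_card_of_injective g hg
  rw [Nat.card_prod, hXc, Nat.card_coe_set_eq] at h1
  have h2 : Nat.card S ≤ (invSet S u).ncard * 11 := by
    have hfib : ∀ s s' : S, f s = f s' → (s' : G)⁻¹ * s ∈ X := by
      intro s s' h
      rw [← hfix]
      refine ⟨S.mul_mem (S.inv_mem s'.2) s.2, mem_cent.2 ?_⟩
      have h' : u * (s : G) * u⁻¹ * (s : G)⁻¹ = u * (s' : G) * u⁻¹ * (s' : G)⁻¹ :=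
        congrArg Subtype.val h
      symm
      calc u * ((s' : G)⁻¹ * s)
          = (u * (s' : G) * u⁻¹)⁻¹ * (u * (s : G) * u⁻¹) * u := by group
        _ = (u * (s' : G) * u⁻¹)⁻¹ * (u * (s' : G) * u⁻¹ * (s' : G)⁻¹ * s) * u := by
            rw [← eq_mul_inv_iff_mul_eq.2 ?_]
            rw [← h']; group
        _ = (s' : G)⁻¹ * s * u := by group
    rw [← Nat.card_coe_set_eq, ← hXc, ← Nat.card_prod]
    refine Nat.card_le_card_of_injective
      (fun s => (f s, ⟨_, hfib s (Function.invFun f (f s))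
        (Function.invFun_eq ⟨s, rfl⟩).symm⟩)) fun s s' h => ?_
    simp only [Prod.mk.injEq, Subtype.mk.injEq] at h
    obtain ⟨h1, h2⟩ := h
    rw [h1] at h2
    exact Subtype.ext (mul_left_cancel h2)
  have heq : (invSet S u).ncard * 11 = Nat.card S := le_antisymm h1 h2
  refine ⟨heq, fun s hs => ?_⟩
  have hb := (Nat.bijective_iff_injective_and_card g).2
    ⟨hg, by rw [Nat.card_prod, hXc, Nat.card_coe_set_eq, heq]⟩
  obtain ⟨⟨⟨p, hp⟩, ⟨w, hw⟩⟩, hpw⟩ := hb.2 ⟨s, hs⟩
  exact ⟨p, hp, w, hw, (congrArg Subtype.val hpw).symm⟩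

theorem invSet_inter {x u : G} {S : Subgroup G} (hfix : S ⊓ centralizer ({u} : Set G) = zpowers x)
    (hx : orderOf x = 11) {q : G} (hq : q ∈ invSet S u) (hqX : q ∈ zpowers x) : q = 1 := by
  have h1 := mem_cent.1 (hfix.ge hqX).2
  have h2 := hq.2
  rw [← h1, mul_inv_cancel_right] at h2
  have h4 : orderOf q ∣ 2 := orderOf_dvd_of_pow_eq_one (by
    rw [pow_two]; nth_rw 1 [h2]; exact inv_mul_cancel q)
  have h5 : orderOf q ∣ 11 := hx ▸ orderOf_dvd_of_mem_zpowers hqX
  exact orderOf_eq_one_iff.1 (Nat.eq_one_of_dvd_coprimes (by norm_num) h4 h5)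

/-- What is proved about the centraliser. -/
structure Shape (z x : G) (S : Subgroup G) : Prop where
  card_S : Nat.card S = 1331
  le_cent : S ≤ centralizer ({x} : Set G)
  card_C : Nat.card (centralizer ({x} : Set G)) = 31944
  cent_le_norm : centralizer ({x} : Set G) ≤ normalizer (S : Set G)
  pow_eleven : ∀ s ∈ S, s ^ 11 = 1
  mem_x : x ∈ S
  fix : ∀ u ∈ centralizer ({x} : Set G), orderOf u = 2 →
    S ⊓ centralizer ({u} : Set G) = zpowers x
  isConj : ∀ u ∈ centralizer ({x} : Set G), orderOf u = 2 → IsConj z u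
  unique : ∀ u ∈ centralizer ({x} : Set G), orderOf u = 2 → u * z = z * u → u = z
  class_eq : ∀ u ∈ centralizer ({x} : Set G), orderOf u = 2 → u ∈ orbOf S z
  class_card : (orbOf S z).ncard = 121
  inv_card : (invSet S z).ncard = 121

variable {z t : G}

theorem exists_shape (E : Env z t) (k : Pick z) : ∃ S : Subgroup G, Shape z k.x S := by
  obtain ⟨x, Q, K0, hx, hxz, hQK, hKle, hQc, -, -, -, a, haQ, b, hbQ, hab⟩ := k
  haveI : Fact (Nat.Prime 11) := ⟨by norm_num⟩
  haveI : Fact (Nat.Prime 2) := ⟨Nat.prime_two⟩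
  set C := centralizer ({x} : Set G) with hC
  set X := zpowers x with hX
  have hzC : z ∈ C := mem_cent_symm.1 hxz
  have h264 := E.cz_eleven x hx hxz
  have hd : Nat.card C ∣ 24 * 1331 := (cent_eleven_dvd E hx).1
  have hd264 : 264 ∣ Nat.card C := h264 ▸ card_dvd_of_le inf_le_right
  have h121 : 121 ∣ Nat.card C := by
    have h3 : 11 ^ 3 ∣ Nat.card G := by rw [E.facts.card]; norm_num [bigOrder]
    obtain ⟨T, hT⟩ := (IsPGroup.of_card (n := 1) (show Nat.card X = 11 ^ 1 by
      rw [hX, Nat.card_zpowers, hx, pow_one])).exists_le_sylow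
    set R := (T : Subgroup G) with hR
    have hRc : 11 ^ 3 ∣ Nat.card R := by
      rw [hR, T.card_eq_multiplicity]
      exact pow_dvd_pow 11 (((by norm_num : Nat.Prime 11).pow_dvd_iff_le_factorization
        Nat.card_pos.ne').1 h3)
    obtain ⟨j, hj⟩ := IsPGroup.iff_card.1 (T.2.to_le (inf_le_left : R ⊓ C ≤ R))
    rcases Nat.lt_or_ge j 2 with hj2 | hj2
    · exfalso
      have hxR : x ∈ R ⊓ C := ⟨hT (mem_zpowers x), mem_cent.2 rfl⟩
      have hj1 : j = 1 := by
        rcases Nat.eq_zero_or_pos j with rfl | h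
        · have := Subgroup.orderOf_dvd_natCard _ hxR
          rw [hx, hj] at this; norm_num at this
        · omega
      have heq : X = R ⊓ C := eq_of_le_of_card_ge (zpowers_le.2 hxR)
        (by rw [hX, Nat.card_zpowers, hx, hj, hj1, pow_one])
      haveI : Nontrivial R := Finite.one_lt_card_iff_nontrivial.1
        (lt_of_lt_of_le (by norm_num) (Nat.le_of_dvd Nat.card_pos hRc))
      haveI := T.2.center_nontrivial
      obtain ⟨⟨⟨c, hcR⟩, hcc⟩, hc1⟩ := exists_ne (1 : Subgroup.center R)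
      have hcX : c ∈ X := heq.ge ⟨hcR, mem_cent.2
        (congrArg Subtype.val (mem_center_iff.1 hcc ⟨x, hxR.1⟩)).symm⟩
      have hXc : X = zpowers c := (eq_zpowers_of_mem (by norm_num : Nat.Prime 11) hx hcX
        fun h => hc1 (Subtype.ext (Subtype.ext h))).symm
      have hRC : R ≤ C := fun r hr => by
        rw [hC, ← cent_zpowers x, ← hX, hXc, cent_zpowers]
        exact mem_cent.2 (congrArg Subtype.val (mem_center_iff.1 hcc ⟨r, hr⟩))
      rw [inf_eq_left.2 hRC] at hj
      rw [hj, hj1] at hRc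
      norm_num at hRc
    · refine dvd_trans ?_ (card_dvd_of_le (inf_le_right : R ⊓ C ≤ C))
      rw [hj, show 121 = 11 ^ 2 by norm_num]
      exact pow_dvd_pow 11 hj2
  obtain ⟨c, hc, hCc⟩ : ∃ c, (c = 2 ∨ c = 3) ∧ Nat.card C = 24 * 11 ^ c := by
    have h : Nat.lcm 264 121 ∣ Nat.card C := Nat.lcm_dvd hd264 h121
    obtain ⟨m, hm⟩ := h
    norm_num [Nat.lcm] at hm
    have : 2904 * m ∣ 2904 * 11 := by rw [← hm]; norm_num at hd ⊢; exact hd
    rcases (Nat.dvd_prime (by norm_num)).1 (Nat.dvd_of_mul_dvd_mul_left (by norm_num) this) with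
      rfl | rfl
    · exact ⟨2, Or.inl rfl, by rw [hm]; norm_num⟩
    · exact ⟨3, Or.inr rfl, by rw [hm]; norm_num⟩
  -- every involution
  have hinv : ∀ u ∈ C, orderOf u = 2 →
      IsConj z u ∧ Nat.card ↥(centralizer ({u} : Set G) ⊓ C) = 264 := by
    intro u huC huo
    rcases invol_cases E huo hx (mem_cent_symm.1 huC) with h | ⟨-, h⟩
    · exact h
    exfalso
    obtain ⟨T, hT⟩ := (IsPGroup.of_card (n := 1) (show Nat.card (zpowers (⟨u, huC⟩ : C)) = 2 ^ 1 by
      rw [Nat.card_zpowers, Subgroup.orderOf_mk, huo, pow_one])).exists_le_sylow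
    have hT8 : 2 ^ 3 ∣ Nat.card (T : Subgroup C) := by
      rw [T.card_eq_multiplicity]
      exact pow_dvd_pow 2 ((Nat.prime_two.pow_dvd_iff_le_factorization Nat.card_pos.ne').1
        ((show 2 ^ 3 ∣ 264 by norm_num).trans hd264))
    set R := (T : Subgroup C).map C.subtype with hR
    have hR2 : IsPGroup 2 R := T.2.map _
    have huR : u ∈ R := ⟨⟨u, huC⟩, hT (mem_zpowers _), rfl⟩
    have hRc : 8 ∣ Nat.card R := by
      rw [hR, ← Nat.card_congr ((T : Subgroup C).equivMapOfInjective _ C.subtype_injective).toEquiv]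
      simpa using hT8
    haveI : Nontrivial R := Finite.one_lt_card_iff_nontrivial.1
      (lt_of_lt_of_le (by norm_num) (Nat.le_of_dvd Nat.card_pos hRc))
    haveI := hR2.center_nontrivial
    obtain ⟨⟨⟨v, hvR⟩, hvc⟩, hv1⟩ := exists_ne (1 : Subgroup.center R)
    obtain ⟨j, hj⟩ := IsPGroup.iff_card.1 (hR2.to_le (inf_le_left : R ⊓ centralizer ({u} : Set G) ≤ R))
    have hdj := card_dvd_of_le (show R ⊓ centralizer ({u} : Set G) ≤
      centralizer ({u} : Set G) ⊓ C from fun w hw => ⟨hw.2, map_subtype_le _ hw.1⟩)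
    rw [h, hj] at hdj
    have hj1 : j ≤ 1 := by
      by_contra hj1
      exact absurd ((pow_dvd_pow 2 (show 2 ≤ j by omega)).trans hdj) (by norm_num)
    rcases Nat.lt_or_ge j 1 with h0 | h0
    · have h' := Subgroup.orderOf_dvd_natCard (R ⊓ centralizer ({u} : Set G)) ⟨huR, mem_cent.2 rfl⟩
      rw [huo, hj, show j = 0 by omega] at h'
      norm_num at h'
    have heq : zpowers u = R ⊓ centralizer ({u} : Set G) :=
      eq_of_le_of_card_ge (zpowers_le.2 ⟨huR, mem_cent.2 rfl⟩)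
        (by rw [hj, Nat.card_zpowers, huo, show j = 1 by omega, pow_one])
    have hvu : v ∈ zpowers u := heq.ge ⟨hvR, mem_cent.2
      (congrArg Subtype.val (mem_center_iff.1 hvc ⟨u, huR⟩)).symm⟩
    have huv : zpowers v = zpowers u := eq_zpowers_of_mem Nat.prime_two huo hvu
      fun h => hv1 (Subtype.ext (Subtype.ext h))
    have hRu : R ≤ centralizer ({u} : Set G) := fun r hr => by
      rw [← cent_zpowers u, ← huv, cent_zpowers]
      exact mem_cent.2 (congrArg Subtype.val (mem_center_iff.1 hvc ⟨r, hr⟩))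
    rw [inf_eq_left.2 hRu] at hj
    rw [hj, show j = 1 by omega] at hRc
    norm_num at hRc
  -- a Sylow subgroup normalised by an involution
  obtain ⟨T⟩ : Nonempty (Sylow 11 C) := inferInstance
  set S := (T : Subgroup C).map C.subtype with hS
  have hSC : S ≤ C := map_subtype_le _
  have hfac : (Nat.card C).factorization 11 = c := by
    rw [hCc, Nat.factorization_mul (by norm_num) (pow_ne_zero _ (by norm_num)), Finsupp.add_apply,
      Nat.factorization_eq_zero_of_not_dvd (by norm_num), zero_add,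
      Nat.Prime.factorization_pow (by norm_num), Finsupp.single_eq_same]
  have hSc : Nat.card S = 11 ^ c := by
    rw [hS, ← Nat.card_congr ((T : Subgroup C).equivMapOfInjective _ C.subtype_injective).toEquiv,
      T.card_eq_multiplicity, hfac]
  obtain ⟨u, huC, huo, hun⟩ : ∃ u ∈ C, orderOf u = 2 ∧ u ∈ normalizer (S : Set G) := by
    set N := normalizer ((T : Subgroup C) : Set C) with hN
    have hidx : Nat.card (Sylow 11 C) ∣ 24 := by
      have h1 := T.card_dvd_index
      have h2 := Subgroup.card_mul_index (T : Subgroup C)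
      rw [T.card_eq_multiplicity, hfac, hCc, mul_comm 24] at h2
      rwa [Nat.eq_of_mul_eq_mul_left (pow_pos (by norm_num) c) h2] at h1
    have hmod : Nat.card (Sylow 11 C) % 11 = 1 % 11 := card_sylow_modEq_one 11 C
    have hmul := Subgroup.card_mul_index N
    rw [show N.index = Nat.card (Sylow 11 C) from T.card_eq_index_normalizer.symm, hCc] at hmul
    have hn : Nat.card (Sylow 11 C) ∣ 12 := by
      have : ∀ n ∈ Nat.divisors 24, n % 11 = 1 % 11 → n ∣ 12 := by decide
      exact this _ (Nat.mem_divisors.2 ⟨hidx, by norm_num⟩) hmod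
    obtain ⟨m, hm⟩ := hn
    have h2N : 2 ∣ Nat.card N := by
      refine ⟨m * 11 ^ c, Nat.eq_of_mul_eq_mul_right
        (show 0 < Nat.card (Sylow 11 C) from Nat.card_pos) (hmul.trans ?_)⟩
      rw [show 24 * 11 ^ c = 2 * 12 * 11 ^ c by norm_num, hm]; ring
    obtain ⟨⟨v, hvN⟩, hv⟩ := exists_prime_orderOf_dvd_card' (G := N) 2 h2N
    rw [Subgroup.orderOf_mk] at hv
    exact ⟨v, v.2, by rwa [Subgroup.orderOf_coe],
      Subgroup.le_normalizer_map (H := (T : Subgroup C)) C.subtype ⟨v, hvN, rfl⟩⟩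
  have hxS : x ∈ S := by
    have hc1 : (⟨x, mem_cent.2 rfl⟩ : C) ∈ Subgroup.center C := mem_center_iff.2 fun v =>
      Subtype.ext (mem_cent.1 v.2)
    have hp : IsPGroup 11 (zpowers (⟨x, mem_cent.2 rfl⟩ : C)) := IsPGroup.of_card (n := 1) (by
      rw [Nat.card_zpowers, Subgroup.orderOf_mk, hx, pow_one])
    have hle : zpowers (⟨x, mem_cent.2 rfl⟩ : C) ≤ normalizer ((T : Subgroup C) : Set C) :=
      (zpowers_le.2 hc1).trans (Subgroup.center_le_normalizer _)
    have h := T.3 (hp.to_sup_of_normal_right' T.2 hle) le_sup_right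
    exact ⟨_, h.le ((le_sup_left : zpowers _ ≤ _ ⊔ (T : Subgroup C)) (mem_zpowers _)), rfl⟩
  have hfix : ∀ u ∈ C, orderOf u = 2 → u ∈ normalizer (S : Set G) →
      S ⊓ centralizer ({u} : Set G) = X := by
    intro u huC huo _
    refine (eq_of_le_of_card_ge (zpowers_le.2 (show x ∈ S ⊓ centralizer ({u} : Set G) from ⟨hxS, mem_cent_symm.1 huC⟩)) ?_).symm
    have h1 := card_dvd_of_le (show S ⊓ centralizer ({u} : Set G) ≤
      centralizer ({u} : Set G) ⊓ C from fun w hw => ⟨hw.2, hSC hw.1⟩)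
    rw [(hinv u huC huo).2] at h1
    have h2 := card_dvd_of_le (inf_le_left : S ⊓ centralizer ({u} : Set G) ≤ S)
    rw [hSc] at h2
    have h3 := (Nat.dvd_gcd h1 h2).trans (show Nat.gcd 264 (11 ^ c) ∣ 11 by
      rcases hc with rfl | rfl <;> norm_num)
    rw [Nat.card_zpowers, hx]
    exact Nat.le_of_dvd (by norm_num) h3
  -- the class of an involution is the orbit of `S`
  have hclass : ∀ u ∈ C, orderOf u = 2 → u ∈ normalizer (S : Set G) →
      orbOf C u = orbOf S u ∧ (orbOf S u).ncard * 11 = 11 ^ c := by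
    intro u huC huo hun
    have h1 := orbOf_card C u
    have h2 := orbOf_card S u
    rw [inf_comm, (hinv u huC huo).2, hCc] at h1
    rw [hfix u huC huo hun, hX, Nat.card_zpowers, hx, hSc] at h2
    refine ⟨(Set.eq_of_subset_of_ncard_le (show orbOf S u ⊆ orbOf C u from fun v ⟨n, hn, e⟩ => ⟨n, hSC hn, e⟩) ?_
      (Set.toFinite _)).symm, h2⟩
    omega
  have hSn : C ≤ normalizer (S : Set G) := by
    suffices h : (T : Subgroup C).Normal by
      intro g hg
      have : (⟨g, hg⟩ : C) ∈ normalizer ((T : Subgroup C) : Set C) := by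
        rw [normalizer_eq_top_iff.2 h]; exact mem_top _
      exact Subgroup.le_normalizer_map (H := (T : Subgroup C)) C.subtype ⟨_, this, rfl⟩
    obtain ⟨hcl, -⟩ := hclass u huC huo hun
    obtain ⟨-, hdec⟩ := decomp hx huo hSC hun hxS huC (hfix u huC huo hun)
    refine ⟨fun v hv g => ?_⟩
    -- every conjugate of `u` normalises `S`
    have hall : ∀ g ∈ C, g * u * g⁻¹ ∈ normalizer (S : Set G) := by
      intro g hg
      obtain ⟨s, hs, e⟩ : g * u * g⁻¹ ∈ orbOf S u := hcl ▸ ⟨g, hg, rfl⟩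
      rw [← e]
      exact mul_mem (mul_mem (Subgroup.le_normalizer hs) hun) (inv_mem (Subgroup.le_normalizer hs))
    have hxN : ∀ g ∈ C, g * x * g⁻¹ = x := fun g hg => by
      rw [mem_cent.1 hg, mul_inv_cancel_right]
    have hXN : X ≤ normalizer (S : Set G) := zpowers_le.2 (Subgroup.le_normalizer hxS)
    -- so every conjugate of `S` normalises `S`
    have hconj : ∀ g ∈ C, ∀ v ∈ S, g * v * g⁻¹ ∈ normalizer (S : Set G) := by
      intro g hg v hv
      obtain ⟨s, hs, e⟩ : g⁻¹ * u * g ∈ orbOf S u :=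
        hcl ▸ ⟨g⁻¹, inv_mem hg, by rw [inv_inv]⟩
      have hu' : g * s * u * s⁻¹ * g⁻¹ = u := by
        rw [show g * s * u * s⁻¹ * g⁻¹ = g * (s * u * s⁻¹) * g⁻¹ by group, e]; group
      -- every element of `S` is such a product
      obtain ⟨p, ⟨hp, hpi⟩, w, hw, rfl⟩ := hdec v hv
      rw [show g * (p * w) * g⁻¹ = (g * p * g⁻¹) * (g * w * g⁻¹) by group]
      refine mul_mem ?_ (by
        obtain ⟨i, rfl⟩ := mem_zpowers_iff.1 hw
        rw [← conj_zpow, hxN g hg]; exact zpow_mem (Subgroup.le_normalizer hxS) i)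
      -- `p` is a power of `p * p`, a product of two conjugates of `u`
      have hpp : g * (p * p) * g⁻¹ ∈ normalizer (S : Set G) := by
        have h2 : p * p = (p * u * p⁻¹) * u := by
          calc p * p = p * (u * p * u⁻¹)⁻¹ := by rw [hpi, inv_inv]
            _ = p * u * p⁻¹ * u⁻¹ := by group
            _ = (p * u * p⁻¹) * u := by rw [inv_eq_self_of_orderOf huo]
        rw [h2, show g * (p * u * p⁻¹ * u) * g⁻¹ =
          (g * p) * u * (g * p)⁻¹ * (g * u * g⁻¹) by group]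
        exact mul_mem (hall _ (mul_mem hg (hSC hp))) (hall g hg)
      obtain ⟨i, hi⟩ := (IsPGroup.of_card hSc : IsPGroup 11 S) ⟨p, hp⟩
      have hi' : p ^ 11 ^ i = 1 := congrArg Subtype.val hi
      have hpow : g * p * g⁻¹ = (g * (p * p) * g⁻¹) ^ ((11 ^ i + 1) / 2) := by
        rw [conj_pow, ← pow_two, ← pow_mul, Nat.mul_div_cancel'
          (even_iff_two_dvd.1 ((Odd.pow (by decide)).add_one)), pow_succ, hi', one_mul]
      rw [hpow]
      exact pow_mem hpp _
    have hg : (g : G) * v * (g : G)⁻¹ ∈ normalizer (S : Set G) := hconj g g.2 v ⟨v, hv, rfl⟩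
    have hle : (zpowers (g * v * g⁻¹)) ≤ normalizer ((T : Subgroup C) : Set C) := by
      rw [zpowers_le]
      refine mem_normalizer_iff.2 fun w => ?_
      have h := mem_normalizer_iff.1 hg (w : G)
      constructor
      · intro hw
        obtain ⟨w', hw', e⟩ := h.1 ⟨w, hw, rfl⟩
        rwa [Subtype.ext (show (w' : G) = ((g * v * g⁻¹ * w * (g * v * g⁻¹)⁻¹ : C) : G) from e)] at hw'
      · intro hw
        obtain ⟨w', hw', e⟩ := h.2 ⟨_, hw, rfl⟩
        rwa [Subtype.ext (show (w' : G) = (w : G) from e)] at hw'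
    have hp : IsPGroup 11 (zpowers (g * v * g⁻¹)) := by
      obtain ⟨i, hi⟩ := T.2 ⟨v, hv⟩
      obtain ⟨j, -, hj⟩ := (Nat.dvd_prime_pow (by norm_num : Nat.Prime 11)).1
        (orderOf_dvd_of_pow_eq_one (congrArg Subtype.val hi : v ^ 11 ^ i = 1))
      exact IsPGroup.of_card (n := j) (by rw [Nat.card_zpowers, orderOf_conj', hj])
    exact (T.3 (hp.to_sup_of_normal_right' T.2 hle) le_sup_right).le
      ((le_sup_left : zpowers _ ≤ _ ⊔ (T : Subgroup C)) (mem_zpowers _))
  -- consequences of normality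
  have hfixz := hfix z hzC E.ord_z (hSn hzC)
  obtain ⟨hIc, hIdec⟩ := decomp hx E.ord_z hSC (hSn hzC) hxS hzC hfixz
  rw [hSc] at hIc
  -- the inverted elements are not the powers of a single one
  have hcyc : ∀ p ∈ invSet S z, p ≠ 1 → ¬ invSet S z ⊆ (zpowers p : Set G) := by
    intro p hp hp1 hsub
    have hact : ∀ g ∈ Q, ∃ i : ℤ, g * p * g⁻¹ = p ^ i := by
      intro g hg
      have hgz : g * z = z * g := mem_cent.1 (hKle (hQK hg)).1
      have hm : g * p * g⁻¹ ∈ invSet S z := by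
        refine ⟨(mem_normalizer_iff.1 (hSn (hKle (hQK hg)).2) p).1 hp.1, ?_⟩
        calc z * (g * p * g⁻¹) * z⁻¹ = (z * g) * p * (z * g)⁻¹ := by group
          _ = (g * z) * p * (g * z)⁻¹ := by rw [hgz]
          _ = g * (z * p * z⁻¹) * g⁻¹ := by group
          _ = (g * p * g⁻¹)⁻¹ := by rw [hp.2]; group
      obtain ⟨i, hi⟩ := mem_zpowers_iff.1 (hsub hm)
      exact ⟨i, hi.symm⟩
    obtain ⟨i, hi⟩ := hact a⁻¹ (inv_mem haQ)
    obtain ⟨j, hj⟩ := hact b⁻¹ (inv_mem hbQ)
    have h1 : (a⁻¹ * b⁻¹) * p * (a⁻¹ * b⁻¹)⁻¹ = (b⁻¹ * a⁻¹) * p * (b⁻¹ * a⁻¹)⁻¹ := by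
      calc (a⁻¹ * b⁻¹) * p * (a⁻¹ * b⁻¹)⁻¹ = a⁻¹ * (b⁻¹ * p * b⁻¹⁻¹) * a⁻¹⁻¹ := by group
        _ = (a⁻¹ * p * a⁻¹⁻¹) ^ j := by rw [hj, conj_zpow]
        _ = (b⁻¹ * p * b⁻¹⁻¹) ^ i := by rw [hi, hj, ← zpow_mul, ← zpow_mul, mul_comm i j]
        _ = b⁻¹ * (a⁻¹ * p * a⁻¹⁻¹) * b⁻¹⁻¹ := by rw [hi, conj_zpow]
        _ = (b⁻¹ * a⁻¹) * p * (b⁻¹ * a⁻¹)⁻¹ := by group
    have h2 : z * p * z⁻¹ = p := by
      rw [← hab]
      have h3 := congrArg (fun v => (b⁻¹ * a⁻¹)⁻¹ * v * (b⁻¹ * a⁻¹)) h1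
      calc a * b * a⁻¹ * b⁻¹ * p * (a * b * a⁻¹ * b⁻¹)⁻¹
          = (b⁻¹ * a⁻¹)⁻¹ * ((a⁻¹ * b⁻¹) * p * (a⁻¹ * b⁻¹)⁻¹) * (b⁻¹ * a⁻¹) := by group
        _ = _ := h3
        _ = p := by group
    exact hp1 (invSet_inter hfixz hx hp (hfixz.le ⟨hp.1, mem_cent.2
      (mul_inv_eq_iff_eq_mul.1 h2).symm⟩))
  have hbig : ∀ p ∈ invSet S z, p ≠ 1 → (invSet S z).ncard ≤ orderOf p → False := by
    intro p hp hp1 hle
    refine hcyc p hp hp1 ?_
    have hsub : (zpowers p : Set G) ⊆ invSet S z := by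
      rintro q ⟨i, rfl⟩
      exact ⟨S.zpow_mem hp.1 i, by rw [← conj_zpow, hp.2, inv_zpow]⟩
    refine (Set.eq_of_subset_of_ncard_le hsub ?_ (Set.toFinite _)).ge
    rw [← Nat.card_coe_set_eq (zpowers p : Set G)]
    exact hle.trans (Nat.card_zpowers p).ge
  have hord : ∀ p ∈ S, p ≠ 1 → 11 ∣ orderOf p := by
    intro p hp hp1
    have h := Subgroup.orderOf_dvd_natCard S hp
    rw [hSc] at h
    obtain ⟨i, -, hi⟩ := (Nat.dvd_prime_pow (by norm_num : Nat.Prime 11)).1 h
    rcases i with _ | i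
    · exact absurd (orderOf_eq_one_iff.1 hi) hp1
    · rw [hi, pow_succ]; exact dvd_mul_left 11 _
  obtain rfl : c = 3 := by
    rcases hc with rfl | rfl
    · exfalso
      obtain ⟨p, hp, hp1⟩ := Set.exists_ne_of_one_lt_ncard
        (show 1 < (invSet S z).ncard by omega) 1
      exact hbig p hp hp1 ((show (invSet S z).ncard ≤ 11 by omega).trans
        (Nat.le_of_dvd (orderOf_pos p) (hord p hp.1 hp1)))
    · rfl
  norm_num at hCc hSc hIc
  have hI : (invSet S z).ncard = 121 := by omega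
  have hI11 : ∀ p ∈ invSet S z, p ^ 11 = 1 := by
    intro p hp
    have h := Subgroup.orderOf_dvd_natCard S hp.1
    rw [hSc, show 1331 = 11 ^ 3 by norm_num] at h
    obtain ⟨i, hi, hpo⟩ := (Nat.dvd_prime_pow (by norm_num : Nat.Prime 11)).1 h
    by_contra h11
    have hi2 : 2 ≤ i := by
      by_contra hi2
      exact h11 (orderOf_dvd_iff_pow_eq_one.1 (hpo ▸ (pow_dvd_pow 11 (show i ≤ 1 by omega))))
    refine hbig p hp (fun h1 => h11 (by rw [h1, one_pow])) ?_
    rw [hI, hpo, show 121 = 11 ^ 2 by norm_num]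
    exact Nat.pow_le_pow_right (by norm_num) hi2
  have huniq : ∀ u ∈ C, orderOf u = 2 → u * z = z * u → u = z := by
    intro u huC huo hcom
    by_contra hne
    have hfu := hfix u huC huo (hSn huC)
    obtain ⟨-, hdu⟩ := decomp hx huo hSC (hSn huC) hxS huC hfu
    have hzi := inv_eq_self_of_orderOf E.ord_z
    have hzu : orderOf (z * u) = 2 := by
      refine orderOf_eq_prime ?_ fun h => hne ?_
      · rw [pow_two, show z * u * (z * u) = z * (u * z) * u by group, hcom, ← mul_assoc,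
          sq_eq_one_of_orderOf E.ord_z, one_mul, sq_eq_one_of_orderOf huo]
      · rw [eq_inv_of_mul_eq_one_right h, hzi]
    have hall : S ≤ centralizer ({z * u} : Set G) := by
      intro s hs
      obtain ⟨p, hp, w, hw, rfl⟩ := hdu s hs
      have huw : u * w = w * u := mem_cent.1 (hfu.ge hw).2 |>.symm
      have hzw : z * w = w * z := mem_cent.1 (hfixz.ge hw).2 |>.symm
      refine mul_mem ?_ (mem_cent.2 (by
        rw [← mul_assoc, ← hzw, mul_assoc, ← huw, ← mul_assoc]))
      obtain ⟨q, hq, v, hv, rfl⟩ := hIdec p hp.1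
      have huv : u * v * u⁻¹ = v := by
        rw [← mem_cent.1 (hfu.ge hv).2, mul_inv_cancel_right]
      have huq : u * q * u⁻¹ ∈ invSet S z := by
        refine ⟨(mem_normalizer_iff.1 (hSn huC) q).1 hq.1, ?_⟩
        calc z * (u * q * u⁻¹) * z⁻¹ = (z * u) * q * (z * u)⁻¹ := by group
          _ = (u * z) * q * (u * z)⁻¹ := by rw [hcom]
          _ = u * (z * q * z⁻¹) * u⁻¹ := by group
          _ = (u * q * u⁻¹)⁻¹ := by rw [hq.2]; group
      -- `u q u⁻¹ = q⁻¹ v⁻²` is inverted by `z`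
      have hvS : v ∈ S := (hfu.ge hv).1
      have hvq : q * v = v * q := by
        obtain ⟨i, rfl⟩ := mem_zpowers_iff.1 hv
        exact ((show Commute q x from mem_cent.1 (hSC hq.1)).zpow_right i).eq
      have h1 : u * q * u⁻¹ * q = (v * v)⁻¹ := by
        calc u * q * u⁻¹ * q = (u * (q * v) * u⁻¹) * (u * v * u⁻¹)⁻¹ * q := by group
          _ = (q * v)⁻¹ * v⁻¹ * q := by rw [hp.2, huv]
          _ = v⁻¹ * v⁻¹ := by
              rw [hvq, show (v * q)⁻¹ * v⁻¹ * q = q⁻¹ * (v⁻¹ * v⁻¹ * q) by group,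
                ← ((show Commute q v from hvq).inv_right.mul_right
                  (show Commute q v from hvq).inv_right).eq]
              group
          _ = (v * v)⁻¹ := by group
      have h2 : u * q * u⁻¹ = (v * v)⁻¹ * q⁻¹ := eq_mul_inv_iff_mul_eq.2 h1
      have hvz : z * v * z⁻¹ = v := by
        rw [← mem_cent.1 (hfixz.ge hv).2, mul_inv_cancel_right]
      have h3 := huq.2
      rw [h2, show z * ((v * v)⁻¹ * q⁻¹) * z⁻¹ =
        ((z * v * z⁻¹) * (z * v * z⁻¹))⁻¹ * (z * q * z⁻¹)⁻¹ by group, hvz, hq.2, inv_inv] at h3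
      replace h3 : (v * v)⁻¹ * q = q * (v * v) := h3.trans (by simp [mul_assoc])
      have hv1 : v = 1 := by
        have h4 : (v * v) * (v * v) = 1 := by
          have h5 : q * (v * v) = (v * v) * q :=
            ((show Commute q v from hvq).mul_right (show Commute q v from hvq)).eq
          rw [h5] at h3
          calc (v * v) * (v * v) = (v * v) * ((v * v) * q) * q⁻¹ := by group
            _ = (v * v) * ((v * v)⁻¹ * q) * q⁻¹ := by rw [h3]
            _ = 1 := by group
        have h7 : orderOf v ∣ 4 := orderOf_dvd_of_pow_eq_one (by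
          rw [pow_succ, pow_succ, pow_two, mul_assoc (v * v)]; exact h4)
        have h8 : orderOf v ∣ 11 := hx ▸ orderOf_dvd_of_mem_zpowers hv
        exact orderOf_eq_one_iff.1 (Nat.eq_one_of_dvd_coprimes (by norm_num) h7 h8)
      rw [hv1, mul_one] at hp ⊢
      refine mem_cent.2 (mul_inv_eq_iff_eq_mul.1 ?_).symm
      calc z * u * q * (z * u)⁻¹ = z * (u * q * u⁻¹) * z⁻¹ := by group
        _ = z * q⁻¹ * z⁻¹ := by rw [hp.2]
        _ = (z * q * z⁻¹)⁻¹ := by group
        _ = q := by rw [hq.2, inv_inv]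
    have := card_dvd_of_le (inf_eq_left.2 hall ▸ (hfix _ (mul_mem hzC huC) hzu
      (hSn (mul_mem hzC huC))).le : S ≤ X)
    rw [hSc, hX, Nat.card_zpowers, hx] at this
    norm_num at this
  have hcard : (orbOf S z).ncard = 121 := by
    have := (hclass z hzC E.ord_z (hSn hzC)).2
    omega
  have hmem : ∀ u ∈ C, orderOf u = 2 → u ∈ orbOf S z := by
    intro u huC huo
    obtain ⟨v, ⟨s, hs, rfl⟩, hv⟩ := exists_fixed_odd (sq_eq_one_of_orderOf huo)
      (T := orbOf S z) (by rw [hcard]; decide) (fun v hv => by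
        rw [← (hclass z hzC E.ord_z (hSn hzC)).1] at hv ⊢
        obtain ⟨g, hg, rfl⟩ := hv
        exact ⟨u * g, mul_mem huC hg, by group⟩)
    refine ⟨s, hs, ?_⟩
    have hu' : s⁻¹ * u * s = z := huniq _ (mul_mem (mul_mem (inv_mem (hSC hs)) huC) (hSC hs))
      (by simpa using (orderOf_conj' s⁻¹ u).trans huo) (by
        calc s⁻¹ * u * s * z = s⁻¹ * (u * (s * z * s⁻¹)) * s := by group
          _ = s⁻¹ * (s * z * s⁻¹ * u) * s := by rw [hv]
          _ = z * (s⁻¹ * u * s) := by group)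
    rw [← hu']; group
  refine ⟨S, hSc, hSC, hCc, hSn, fun s hs => ?_, hxS, fun u hu huo => hfix u hu huo (hSn hu),
    fun u hu huo => (hinv u hu huo).1, huniq, hmem, hcard, hI⟩
  obtain ⟨p, hp, w, hw, rfl⟩ := hIdec s hs
  have hw11 : w ^ 11 = 1 := orderOf_dvd_iff_pow_eq_one.1 (hx ▸ orderOf_dvd_of_mem_zpowers hw)
  have hpw : Commute p w := by
    obtain ⟨i, rfl⟩ := mem_zpowers_iff.1 hw
    exact (show Commute p x from mem_cent.1 (hSC hp.1)).zpow_right i
  rw [hpw.mul_pow, hI11 p hp, hw11, one_mul]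

end CfsgLib.J4Type.Eleven
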