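import Cfsg.Agent.Lib.J4Type.Eleven.Local.Outer
import Cfsg.Agent.Lib.Coprime.SymplecticType

/-!
The case of a non-abelian Sylow subgroup for the prime eleven.
-/

set_option autoImplicit false
set_option linter.style.haveILetI false
set_option linter.unusedSectionVars false

namespace CfsgLib.J4Type.Eleven

open Subgroup CfsgLib.J4Type.BigPrimes
open scoped commutatorElement

theorem orbOf_eq {G : Type*} [Group G] [Finite G] {N : Subgroup G} {y : G} {T : Set G}
    (hsub : orbOf N y ⊆ T)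
    (h : T.ncard * Nat.card ↥(N ⊓ centralizer ({y} : Set G)) ≤ Nat.card N) : orbOf N y = T := by
  refine Set.eq_of_subset_of_ncard_le hsub ?_ (Set.toFinite _)
  rw [← orbOf_card N y] at h
  exact Nat.le_of_mul_le_mul_right h Nat.card_pos

namespace Setup

variable {G : Type*} [Group G] [Finite G] {z t : G} (D : Setup z t)

theorem card_S_sdiff_X : ((D.S : Set G) \ (D.X : Set G)).ncard = 1320 := by
  have h1 : (D.S : Set G).ncard = 1331 := by rw [← Nat.card_coe_set_eq]; exact D.shape.card_S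
  have h2 : (D.X : Set G).ncard = 11 := by rw [← Nat.card_coe_set_eq]; exact D.card_X
  rw [Set.ncard_sdiff (SetLike.coe_subset_coe.2 D.X_le_S), h1, h2]

theorem orbOf_NX_sub {s : G} (hs : s ∈ D.S) (hsX : s ∉ D.X) :
    orbOf D.NX s ⊆ (D.S : Set G) \ (D.X : Set G) := by
  rintro _ ⟨n, hn, rfl⟩
  refine ⟨(mem_normalizer_iff.1 (D.NX_le_NS hn) s).1 hs, fun h => hsX ?_⟩
  exact (mem_normalizer_iff.1 hn s).2 h

variable (hne : ¬ ∀ a ∈ D.S, ∀ b ∈ D.S, a * b = b * a)

include hne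

theorem not_central {c : G} (hc : c ∈ D.S) (hcX : c ∉ D.X) :
    ∃ d ∈ D.S, c * d ≠ d * c := by
  by_contra hcc
  push Not at hcc
  refine hne fun a ha b hb => ?_
  set Z := D.S ⊓ centralizer (D.S : Set G) with hZ
  have hxZ : D.pick.x ∈ Z :=
    ⟨D.shape.mem_x, mem_centralizer_iff.2 fun v hv => mem_cent.1 (D.shape.le_cent hv)⟩
  have hcZ : c ∈ Z := ⟨hc, mem_centralizer_iff.2 fun v hv => (hcc v hv).symm⟩
  have hd := card_dvd_of_le (inf_le_left : Z ≤ D.S)
  rw [D.shape.card_S] at hd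
  have h121 : 121 ≤ Nat.card Z := by
    by_contra hlt
    have hle : Nat.card Z ≤ 11 := by
      have : ∀ n ∈ [1, 11, 121, 1331], ¬ 121 ≤ n → n ≤ 11 := by decide
      refine this _ ?_ hlt
      obtain ⟨i, hi, e⟩ := (Nat.dvd_prime_pow (by norm_num : Nat.Prime 11)).1
        (show Nat.card Z ∣ 11 ^ 3 by norm_num; exact hd)
      interval_cases i <;> simp [e]
    have heq : D.X = Z := eq_of_le_of_card_ge (zpowers_le.2 hxZ) (by rw [D.card_X]; exact hle)
    exact hcX (heq.ge hcZ)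
  suffices haZ : a ∈ Z from (mem_centralizer_iff.1 haZ.2 b hb).symm
  by_contra haZ
  set R := D.S ⊓ centralizer ({a} : Set G) with hR
  have hlt : Z < R := lt_of_le_of_ne
    (fun v hv => ⟨hv.1, mem_cent.2 ((mem_centralizer_iff.1 hv.2) a ha).symm⟩)
    fun e => haZ (e.ge ⟨ha, mem_cent.2 rfl⟩)
  have hgt : Nat.card Z < Nat.card R := by
    by_contra h
    exact hlt.ne (eq_of_le_of_card_ge hlt.le (Nat.le_of_not_lt h))
  have hRd := card_dvd_of_le (inf_le_left : R ≤ D.S)
  rw [D.shape.card_S] at hRd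
  have hR3 : Nat.card R = 1331 := by
    obtain ⟨i, hi, e⟩ := (Nat.dvd_prime_pow (by norm_num : Nat.Prime 11)).1
      (show Nat.card R ∣ 11 ^ 3 by norm_num; exact hRd)
    interval_cases i <;> omega
  have hSR : R = D.S := eq_of_le_of_card_ge inf_le_left (by rw [hR3, D.shape.card_S])
  exact haZ ⟨ha, mem_centralizer_iff.2 fun v hv => mem_cent.1 (hSR.ge hv).2⟩

theorem card_cent_S {s : G} (hs : s ∈ D.S) (hsX : s ∉ D.X) :
    Nat.card ↥(D.S ⊓ centralizer ({s} : Set G)) = 121 := by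
  set R := D.S ⊓ centralizer ({s} : Set G) with hR
  have hd := card_dvd_of_le (inf_le_left : R ≤ D.S)
  rw [D.shape.card_S] at hd
  obtain ⟨i, hi, e⟩ := (Nat.dvd_prime_pow (by norm_num : Nat.Prime 11)).1
    (show Nat.card R ∣ 11 ^ 3 by norm_num; exact hd)
  have hxR : D.pick.x ∈ R := ⟨D.shape.mem_x, mem_cent_symm.1 (D.shape.le_cent hs)⟩
  have h11 : ¬ Nat.card R ≤ 11 := fun h =>
    hsX ((eq_of_le_of_card_ge (zpowers_le.2 hxR : D.X ≤ R) (by rw [D.card_X]; exact h)).ge
      ⟨hs, mem_cent.2 rfl⟩)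
  have h1331 : Nat.card R ≠ 1331 := by
    intro h
    obtain ⟨d, hd, hdc⟩ := D.not_central hne hs hsX
    exact hdc (mem_cent.1 ((eq_of_le_of_card_ge inf_le_left (by rw [h, D.shape.card_S]) :
      R = D.S).ge hd).2).symm
  interval_cases i <;> omega

theorem outer_orbit {s : G} (hs : s ∈ D.S) (hsX : s ∉ D.X) :
    orbOf D.NX s = (D.S : Set G) \ (D.X : Set G) ∧
      Nat.card ↥(D.NX ⊓ centralizer ({s} : Set G)) = 242 := by
  have hle := Set.ncard_le_ncard (D.orbOf_NX_sub hs hsX) (Set.toFinite _)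
  have hmul := orbOf_card D.NX s
  rw [D.card_NX] at hmul
  rw [D.card_S_sdiff_X] at hle
  have h242 : Nat.card ↥(D.NX ⊓ centralizer ({s} : Set G)) = 242 := by
    rcases D.card_cent_NX_cases hs hsX with h | h <;> rw [h, D.card_cent_S hne hs hsX] at hmul ⊢
    omega
  exact ⟨orbOf_eq (D.orbOf_NX_sub hs hsX) (by rw [D.card_S_sdiff_X, h242, D.card_NX]), h242⟩

theorem NS_eq : normalizer (D.S : Set G) = D.NX := by
  refine le_antisymm (fun g hg => ?_) D.NX_le_NS
  have hm : g * D.pick.x * g⁻¹ ∈ D.X := by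
    by_contra hX
    obtain ⟨d, hd, hdc⟩ := D.not_central hne ((mem_normalizer_iff.1 hg _).1 D.shape.mem_x) hX
    refine hdc ?_
    have hd' : g⁻¹ * d * g ∈ D.S := by simpa using (mem_normalizer_iff.1 (inv_mem hg) d).1 hd
    have h := mem_cent.1 (D.shape.le_cent hd')
    calc g * D.pick.x * g⁻¹ * d = g * (D.pick.x * (g⁻¹ * d * g)) * g⁻¹ := by group
      _ = g * (g⁻¹ * d * g * D.pick.x) * g⁻¹ := by rw [h]
      _ = d * (g * D.pick.x * g⁻¹) := by group
  refine mem_normalizer_iff_map_conj_eq.2 ?_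
  show (zpowers D.pick.x).map (MulAut.conj g).toMonoidHom = zpowers D.pick.x
  rw [MonoidHom.map_zpowers]
  exact eq_zpowers_of_mem (by norm_num : Nat.Prime 11) D.pick.ord_x hm
    (ne_one_of_orderOf ((orderOf_conj' g D.pick.x).trans D.pick.ord_x) (by norm_num))

theorem center_S : Subgroup.center ↥D.S = D.X.subgroupOf D.S := by
  ext ⟨s, hs⟩
  rw [mem_center_iff, mem_subgroupOf]
  constructor
  · intro h
    by_contra hX
    obtain ⟨d, hd, hdc⟩ := D.not_central hne hs hX
    exact hdc (congrArg Subtype.val (h ⟨d, hd⟩)).symm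
  · intro h v
    obtain ⟨i, hi⟩ := mem_zpowers_iff.1 (show s ∈ D.X from h)
    refine Subtype.ext ?_
    show (v : G) * s = s * v
    rw [← hi]
    exact ((show Commute (v : G) D.pick.x from mem_cent.1 (D.shape.le_cent v.2)).zpow_right i).eq

theorem extraspecial : Cfsg.IsExtraspecial 11 ↥D.S := by
  haveI : Fact (Nat.Prime 11) := ⟨by norm_num⟩
  set Z := D.X.subgroupOf D.S with hZdef
  have hZ : Nat.card Z = 11 := by
    rw [hZdef, Nat.card_congr (subgroupOfEquivOfLe D.X_le_S).toEquiv, D.card_X]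
  have hcen := D.center_S hne
  haveI : Z.Normal := by rw [hZdef, ← hcen]; infer_instance
  have hq : Nat.card (↥D.S ⧸ Z) = 11 ^ 2 := by
    have h := Subgroup.card_eq_card_quotient_mul_card_subgroup Z
    rw [D.shape.card_S, hZ] at h
    omega
  have hcomm : IsMulCommutative (↥D.S ⧸ Z) :=
    IsPGroup.isMulCommutative_of_card_eq_prime_sq hq
  refine CfsgLib.Coprime.isExtraspecial_of_central D.isPGroup_S Z hZ hcen (fun a b => ?_)
    (fun a => ?_) fun h => ?_
  · refine (QuotientGroup.eq_one_iff _).1 ?_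
    show (QuotientGroup.mk' Z) ⁅a, b⁆ = 1
    rw [map_commutatorElement, commutatorElement_eq_one_iff_mul_comm]
    exact mul_comm' _ _
  · rw [show a ^ 11 = 1 from Subtype.ext (D.shape.pow_eleven a a.2)]
    exact one_mem _
  · have h1 : Nat.card Z = 1331 := by rw [h, Subgroup.card_top, D.shape.card_S]
    omega

theorem two_classes_eleven :
    ∃ a b : G, orderOf a = 11 ∧ orderOf b = 11 ∧ ¬ IsConj a b ∧
      ∀ w : G, orderOf w = 11 → IsConj w a ∨ IsConj w b := by
  haveI : Fact (Nat.Prime 11) := ⟨by norm_num⟩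
  obtain ⟨y, hy, hyX, u, huo, htu, hyu⟩ := D.exists_second
  refine ⟨D.pick.x, y, D.pick.ord_x, D.orderOf_S hy fun h => hyX (h ▸ one_mem _), fun h => ?_,
    fun w hw => ?_⟩
  · obtain ⟨c, hc⟩ := isConj_iff.1 h
    rw [← hc] at hyu
    have hyu' : D.pick.x ∈ centralizer ({c⁻¹ * u * c} : Set G) :=
      mem_cent_symm.1 (mem_cent_conj.1 (mem_cent_symm.1 hyu))
    exact D.not_second (htu.trans (isConj_iff.2 ⟨c⁻¹, by rw [inv_inv]⟩)) (mem_zpowers _)
      (ne_one_of_orderOf D.pick.ord_x (by norm_num)) hyu'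
  · obtain ⟨T, hT⟩ := (IsPGroup.of_card (n := 1) (show Nat.card (zpowers w) = 11 ^ 1 by
      rw [Nat.card_zpowers, hw, pow_one])).exists_le_sylow
    have hS : Nat.card D.S = 11 ^ (Nat.card G).factorization 11 := by
      rw [D.shape.card_S, D.env.facts.card,
        show bigOrder = 11 ^ 3 * 65195770883604480 by norm_num [bigOrder],
        Nat.factorization_mul (by norm_num) (by norm_num), Finsupp.add_apply,
        Nat.Prime.factorization_pow (by norm_num), Finsupp.single_eq_same,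
        Nat.factorization_eq_zero_of_not_dvd (by norm_num)]
      norm_num
    obtain ⟨g, hg⟩ := MulAction.exists_smul_eq G T (Sylow.ofCard D.S hS)
    have h : (T : Subgroup G).map (MulAut.conj g).toMonoidHom = D.S :=
      congrArg (fun P : Sylow 11 G => (P : Subgroup G)) hg
    have hgw : g * w * g⁻¹ ∈ D.S := h.le ⟨w, hT (mem_zpowers w), rfl⟩
    have hconj : IsConj w (g * w * g⁻¹) := isConj_iff.2 ⟨g, rfl⟩
    by_cases hX : g * w * g⁻¹ ∈ D.X
    · obtain ⟨n, -, hn⟩ := D.X_conj hX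
        (ne_one_of_orderOf ((orderOf_conj' g w).trans hw) (by norm_num))
      exact Or.inl (hconj.trans (isConj_iff.2 ⟨n, hn⟩ : IsConj D.pick.x _).symm)
    · obtain ⟨n, -, hn⟩ := ((D.outer_orbit hne hy hyX).1.ge ⟨hgw, hX⟩ : _ ∈ orbOf D.NX y)
      exact Or.inr (hconj.trans (isConj_iff.2 ⟨n, hn⟩ : IsConj y _).symm)

theorem exists_outer_z : ∃ u : G, orderOf u = 2 ∧ u ∈ D.NX ∧ u ∉ D.CX ∧ u * z = z * u := by
  obtain ⟨y, hy, hyX, -⟩ := D.exists_second
  obtain ⟨u, huo, huN, huC, -⟩ := D.exists_outer hy hyX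
    (by rw [(D.outer_orbit hne hy hyX).2]; norm_num)
  obtain ⟨s, hs, hv⟩ := D.exists_comm_conj huo huN
  have hsN : s ∈ D.NX := D.CX_le_NX (D.shape.le_cent hs)
  refine ⟨s⁻¹ * u * s, by simpa using (orderOf_conj' s⁻¹ u).trans huo,
    mul_mem (mul_mem (inv_mem hsN) huN) hsN, fun h => huC ?_, ?_⟩
  · have := mul_mem (mul_mem (D.shape.le_cent hs) h) (inv_mem (D.shape.le_cent hs))
    rwa [show s * (s⁻¹ * u * s) * s⁻¹ = u by group] at this
  · calc s⁻¹ * u * s * z = s⁻¹ * (u * (s * z * s⁻¹)) * s := by group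
      _ = s⁻¹ * (s * z * s⁻¹ * u) * s := by rw [hv]
      _ = z * (s⁻¹ * u * s) := by group

end Setup

end CfsgLib.J4Type.Eleven
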