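import Cfsg.Agent.Lib.J4Type.Eleven.Local.Cent

/-!
The normaliser of the element of order eleven, and an element of the normal subgroup of order
`1331` outside it commuting with an involution of the second class.
-/

set_option autoImplicit false
set_option linter.style.haveILetI false
set_option linter.unusedSectionVars false

namespace CfsgLib.J4Type.Eleven

open Subgroup CfsgLib.J4Type.BigPrimes

variable {G : Type*} [Group G] [Finite G] {z t : G}

/-- The standing data. -/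
structure Setup (z t : G) where
  /-- The hypotheses. -/
  env : Env z t
  /-- The element commuting with `z`. -/
  pick : Pick z
  /-- The normal subgroup of its centraliser. -/
  S : Subgroup G
  shape : Shape z pick.x S

theorem exists_setup (E : Env z t) (k : Pick z) : Nonempty (Setup z t) := by
  obtain ⟨S, hS⟩ := exists_shape E k
  exact ⟨⟨E, k, S, hS⟩⟩

namespace Setup

variable (D : Setup z t)

/-- The subgroup of order eleven. -/
abbrev X : Subgroup G := zpowers D.pick.x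

/-- Its normaliser. -/
abbrev NX : Subgroup G := normalizer (D.X : Set G)

/-- Its centraliser. -/
abbrev CX : Subgroup G := centralizer ({D.pick.x} : Set G)

theorem card_X : Nat.card D.X = 11 := by rw [Nat.card_zpowers, D.pick.ord_x]

theorem X_le_S : D.X ≤ D.S := zpowers_le.2 D.shape.mem_x

theorem CX_le_NX : D.CX ≤ D.NX := by
  intro g hg
  refine Subgroup.centralizer_le_normalizer _ ?_
  rw [cent_zpowers]; exact hg

theorem conj_mem_X {g q : G} (hg : g ∈ D.NX) (hq : q ∈ D.X) : g * q * g⁻¹ ∈ D.X :=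
  (mem_normalizer_iff.1 hg q).1 hq

theorem conj_mem_CX {g c : G} (hg : g ∈ D.NX) (hc : c ∈ D.CX) : g * c * g⁻¹ ∈ D.CX := by
  rw [CX, ← cent_zpowers] at hc ⊢
  refine mem_centralizer_iff.2 fun a ha => ?_
  have ha' : g⁻¹ * a * g ∈ D.X := by
    simpa using D.conj_mem_X (inv_mem hg) ha
  have h := mem_centralizer_iff.1 hc _ ha'
  calc a * (g * c * g⁻¹) = g * ((g⁻¹ * a * g) * c) * g⁻¹ := by group
    _ = g * (c * (g⁻¹ * a * g)) * g⁻¹ := by rw [h]
    _ = g * c * g⁻¹ * a := by group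

/-- A subgroup of the centraliser of order a power of eleven lies in `S`. -/
theorem le_S {R : Subgroup G} (hR : R ≤ D.CX) (hp : IsPGroup 11 R) : R ≤ D.S := by
  haveI : Fact (Nat.Prime 11) := ⟨by norm_num⟩
  have hle : R ≤ normalizer (D.S : Set G) := hR.trans D.shape.cent_le_norm
  have hpS : IsPGroup 11 D.S := IsPGroup.of_card (n := 3) (by rw [D.shape.card_S]; norm_num)
  have h := hp.to_sup_of_normal_right' hpS hle
  obtain ⟨j, hj⟩ := IsPGroup.iff_card.1 h
  have hd := card_dvd_of_le (sup_le hR D.shape.le_cent : R ⊔ D.S ≤ D.CX)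
  rw [hj, D.shape.card_C] at hd
  have h3 : j ≤ 3 := by
    by_contra h4
    exact absurd ((pow_dvd_pow 11 (show 4 ≤ j by omega)).trans hd) (by norm_num)
  have heq : D.S = R ⊔ D.S := eq_of_le_of_card_ge le_sup_right (by
    rw [hj, D.shape.card_S, show 1331 = 11 ^ 3 by norm_num]
    exact Nat.pow_le_pow_right (by norm_num) h3)
  exact le_sup_left.trans heq.ge

theorem isPGroup_S : IsPGroup 11 D.S :=
  IsPGroup.of_card (n := 3) (by rw [D.shape.card_S]; norm_num)

theorem mem_S_of_pow {g : G} (hg : g ∈ D.CX) (h : g ^ 11 = 1) : g ∈ D.S := by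
  refine D.le_S (zpowers_le.2 hg) ?_ (mem_zpowers g)
  rcases (Nat.dvd_prime (by norm_num : Nat.Prime 11)).1 (orderOf_dvd_of_pow_eq_one h) with e | e
  · exact IsPGroup.of_card (n := 0) (by rw [Nat.card_zpowers, e, pow_zero])
  · exact IsPGroup.of_card (n := 1) (by rw [Nat.card_zpowers, e, pow_one])

theorem orderOf_S {s : G} (hs : s ∈ D.S) (hs1 : s ≠ 1) : orderOf s = 11 :=
  haveI : Fact (Nat.Prime 11) := ⟨by norm_num⟩
  orderOf_eq_prime (D.shape.pow_eleven s hs) hs1

theorem NX_le_NS : D.NX ≤ normalizer (D.S : Set G) := by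
  intro g hg
  have key : ∀ g ∈ D.NX, ∀ s ∈ D.S, g * s * g⁻¹ ∈ D.S := fun g hg s hs =>
    D.mem_S_of_pow (D.conj_mem_CX hg (D.shape.le_cent hs))
      (by rw [conj_pow, D.shape.pow_eleven s hs]; group)
  refine mem_normalizer_iff.2 fun s => ⟨key g hg s, fun h => ?_⟩
  have := key g⁻¹ (inv_mem hg) _ h
  rwa [show g⁻¹ * (g * s * g⁻¹) * g⁻¹⁻¹ = s by group] at this

/-- The centraliser of an element of `X` other than `1`. -/
theorem cent_of_X {q : G} (hq : q ∈ D.X) (hq1 : q ≠ 1) :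
    centralizer ({q} : Set G) = D.CX := by
  rw [← cent_zpowers q, eq_zpowers_of_mem (by norm_num : Nat.Prime 11) D.pick.ord_x hq hq1,
    cent_zpowers]

theorem exists_hom : ∃ f : ↥D.NX →* MulAut ↥D.X, f.ker = D.CX.subgroupOf D.NX ∧
    Nat.card f.range ∣ 10 := by
  refine ⟨D.X.normalizerMonoidHom, ?_, ?_⟩
  · rw [Subgroup.normalizerMonoidHom_ker, CX, ← cent_zpowers]
  · refine dvd_trans (card_subgroup_dvd_card _) ?_
    haveI : IsCyclic D.X := inferInstance
    rw [IsCyclic.card_mulAut, D.card_X, Nat.totient_prime (by norm_num : Nat.Prime 11)]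

/-- A subgroup of the normaliser: the index of the centralising part divides ten. -/
theorem index_dvd {R : Subgroup G} (hR : R ≤ D.NX) :
    ∃ m, m ∣ 10 ∧ Nat.card R = Nat.card ↥(R ⊓ D.CX) * m := by
  obtain ⟨f, hker, hdvd⟩ := D.exists_hom
  set M := R.subgroupOf D.NX with hM
  refine ⟨Nat.card (M.map f), (card_dvd_of_le ?_).trans hdvd, ?_⟩
  · rintro _ ⟨g, -, rfl⟩; exact ⟨g, rfl⟩
  have h1 := Subgroup.card_mul_index (f.ker.subgroupOf M)
  rw [← Subgroup.relIndex, Subgroup.relIndex_ker] at h1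
  have h2 : Nat.card (f.ker.subgroupOf M) = Nat.card ↥(R ⊓ D.CX) := by
    rw [← inf_subgroupOf_right, Nat.card_congr (subgroupOfEquivOfLe inf_le_right).toEquiv, hker, hM]
    show Nat.card ↥((D.CX ⊓ R).subgroupOf D.NX) = _
    rw [Nat.card_congr (subgroupOfEquivOfLe (inf_le_right.trans hR)).toEquiv, inf_comm]
  rw [h2, hM, Nat.card_congr (subgroupOfEquivOfLe hR).toEquiv] at h1
  exact h1.symm

theorem card_cz_NX :
    Nat.card ↥(centralizer ({z} : Set G) ⊓ D.NX) = 2640 := by
  haveI : Fact (Nat.Prime 11) := ⟨by norm_num⟩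
  set H := centralizer ({z} : Set G) with hH
  obtain ⟨m, hm, hc⟩ := D.index_dvd (R := H ⊓ D.NX) inf_le_right
  rw [show H ⊓ D.NX ⊓ D.CX = H ⊓ D.CX from by
    rw [inf_assoc, inf_eq_right.2 D.CX_le_NX], D.env.cz_eleven _ D.pick.ord_x D.pick.mem_x] at hc
  set T := D.X.subgroupOf H with hT
  have hXH : D.X ≤ H := zpowers_le.2 D.pick.mem_x
  have hfac : Nat.card T = 11 ^ (Nat.card H).factorization 11 := by
    rw [hT, Nat.card_congr (subgroupOfEquivOfLe hXH).toEquiv, D.card_X, D.env.card_cz,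
      show zOrder = 11 * 1981808640 by norm_num [zOrder],
      Nat.factorization_mul (by norm_num) (by norm_num), Finsupp.add_apply,
      Nat.Prime.factorization_self (by norm_num), Nat.factorization_eq_zero_of_not_dvd (by norm_num),
      add_zero, pow_one]
  let P : Sylow 11 H := Sylow.ofCard T hfac
  have hmul := Subgroup.card_mul_index (normalizer ((P : Subgroup H) : Set H))
  rw [show (normalizer ((P : Subgroup H) : Set H)).index = Nat.card (Sylow 11 H) from
    P.card_eq_index_normalizer.symm, D.env.card_cz] at hmul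
  have hN : Nat.card ↥(normalizer ((P : Subgroup H) : Set H)) = Nat.card ↥(H ⊓ D.NX) := by
    rw [Nat.card_congr ((normalizer ((P : Subgroup H) : Set H)).equivMapOfInjective _
      H.subtype_injective).toEquiv]
    refine congrArg (fun K : Subgroup G => Nat.card K) ?_
    ext g
    constructor
    · rintro ⟨⟨g, hg⟩, hgn, rfl⟩
      refine ⟨hg, mem_normalizer_iff.2 fun a => ⟨fun ha => ?_, fun ha => ?_⟩⟩
      · exact (mem_normalizer_iff.1 hgn ⟨a, hXH ha⟩).1 ha
      · have haH : a ∈ H := by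
          have := H.mul_mem (H.mul_mem (H.inv_mem hg) (hXH ha)) hg
          simpa [mul_assoc] using this
        exact (mem_normalizer_iff.1 hgn ⟨a, haH⟩).2 ha
    · rintro ⟨hgH, hgN⟩
      exact ⟨⟨g, hgH⟩, mem_normalizer_iff.2 fun a => mem_normalizer_iff.1 hgN (a : G), rfl⟩
  rw [hN, hc] at hmul
  have hmod : Nat.card (Sylow 11 H) % 11 = 1 % 11 := card_sylow_modEq_one 11 H
  have : ∀ m ∈ Nat.divisors 10, zOrder / (264 * m) % 11 = 1 % 11 → m = 10 := by decide +kernel
  have hn : zOrder / (264 * m) = Nat.card (Sylow 11 H) := by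
    have hm0 : 0 < m := Nat.pos_of_dvd_of_pos hm (by norm_num)
    rw [← hmul, Nat.mul_div_cancel_left _ (by omega)]
  rw [hc, this m (Nat.mem_divisors.2 ⟨hm, by norm_num⟩) (hn ▸ hmod)]

theorem card_NX : Nat.card D.NX = 319440 := by
  obtain ⟨m, hm, hc⟩ := D.index_dvd (R := D.NX) le_rfl
  rw [inf_eq_right.2 D.CX_le_NX, D.shape.card_C] at hc
  set H := centralizer ({z} : Set G) with hH
  have h1 : Nat.card ↥(H ⊓ D.NX) = 2640 := D.card_cz_NX
  have h10 : 10 ∣ m := by
    have hle : (H ⊓ D.NX) ⊔ D.CX ≤ D.NX := sup_le inf_le_right D.CX_le_NX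
    have hn : H ⊓ D.NX ≤ normalizer (D.CX : Set G) := by
      intro g hg
      refine mem_normalizer_iff.2 fun c => ⟨fun h => D.conj_mem_CX hg.2 h, fun h => ?_⟩
      have := D.conj_mem_CX (inv_mem hg.2) h
      rwa [show g⁻¹ * (g * c * g⁻¹) * g⁻¹⁻¹ = c by group] at this
    haveI : ((D.CX).subgroupOf (D.CX ⊔ (H ⊓ D.NX))).Normal :=
      (normal_subgroupOf_iff_le_normalizer le_sup_left).2 (sup_le Subgroup.le_normalizer hn)
    have h2 : D.CX.relIndex (H ⊓ D.NX) = D.CX.relIndex (D.CX ⊔ (H ⊓ D.NX)) := by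
      rw [← relIndex_subgroupOf hn,
        ← relIndex_subgroupOf (sup_le Subgroup.le_normalizer hn : D.CX ⊔ (H ⊓ D.NX) ≤ _)]
      haveI : (D.CX.subgroupOf (normalizer (D.CX : Set G))).Normal := normal_in_normalizer
      rw [subgroupOf_sup Subgroup.le_normalizer hn, relIndex_sup_left]
    have h3 := Subgroup.card_mul_index ((D.CX).subgroupOf (H ⊓ D.NX))
    rw [← Subgroup.relIndex, ← inf_subgroupOf_right,
      Nat.card_congr (subgroupOfEquivOfLe inf_le_right).toEquiv,
      show D.CX ⊓ (H ⊓ D.NX) = H ⊓ D.CX by rw [inf_left_comm, inf_eq_left.2 D.CX_le_NX],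
      D.env.cz_eleven _ D.pick.ord_x D.pick.mem_x, h1, h2] at h3
    have h4 := Subgroup.card_mul_index ((D.CX).subgroupOf (D.CX ⊔ (H ⊓ D.NX)))
    rw [← Subgroup.relIndex, Nat.card_congr (subgroupOfEquivOfLe le_sup_left).toEquiv,
      D.shape.card_C, show D.CX.relIndex (D.CX ⊔ (H ⊓ D.NX)) = 10 by omega] at h4
    have h5 := card_dvd_of_le (sup_le D.CX_le_NX inf_le_right : D.CX ⊔ (H ⊓ D.NX) ≤ D.NX)
    rw [← h4, hc] at h5
    exact Nat.dvd_of_mul_dvd_mul_left (by norm_num) h5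
  rw [hc, Nat.dvd_antisymm hm h10]

theorem card_orb_NX_X : (orbOf D.NX D.pick.x).ncard = 10 := by
  have h := orbOf_card D.NX D.pick.x
  rw [show D.NX ⊓ centralizer ({D.pick.x} : Set G) = D.CX from inf_eq_right.2 D.CX_le_NX,
    D.shape.card_C, D.card_NX] at h
  omega

theorem card_X_ne_one : ((D.X : Set G) \ {1}).ncard = 10 := by
  have h : (D.X : Set G).ncard = 11 := by
    rw [← Nat.card_coe_set_eq]; exact D.card_X
  rw [Set.ncard_sdiff_singleton_of_mem D.X.one_mem, h]

/-- The normaliser permutes the elements other than `1` of `X` transitively. -/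
theorem X_conj {q : G} (hq : q ∈ D.X) (hq1 : q ≠ 1) : ∃ n ∈ D.NX, n * D.pick.x * n⁻¹ = q := by
  have hx1 : D.pick.x ≠ 1 := ne_one_of_orderOf D.pick.ord_x (by norm_num)
  have hsub : orbOf D.NX D.pick.x ⊆ (D.X : Set G) \ {1} := by
    rintro _ ⟨n, hn, rfl⟩
    exact ⟨D.conj_mem_X hn (mem_zpowers _), fun h => hx1 (by simpa using h)⟩
  have heq := Set.eq_of_subset_of_ncard_le hsub
    (by rw [D.card_orb_NX_X, D.card_X_ne_one]) (Set.toFinite _)
  exact heq.ge ⟨hq, hq1⟩

/-- An element of `S` outside `X`: centralising part of the centraliser of `x`. -/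
theorem cent_inf_CX_le {s : G} (hs : s ∈ D.S) (hsX : s ∉ D.X) :
    centralizer ({s} : Set G) ⊓ D.CX ≤ D.S := by
  haveI : Fact (Nat.Prime 11) := ⟨by norm_num⟩
  set R := centralizer ({s} : Set G) ⊓ D.CX with hR
  refine D.le_S inf_le_right ?_
  have hd : Nat.card R ∣ 24 * 1331 := by
    refine (card_dvd_of_le (inf_le_right : R ≤ D.CX)).trans ?_
    rw [D.shape.card_C]
  have h2 : ¬ 2 ∣ Nat.card R := by
    intro h
    haveI : Fact (Nat.Prime 2) := ⟨Nat.prime_two⟩
    obtain ⟨⟨u, hu⟩, huo⟩ := exists_prime_orderOf_dvd_card' (G := R) 2 h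
    rw [Subgroup.orderOf_mk] at huo
    exact hsX ((D.shape.fix u hu.2 huo).le ⟨hs, mem_cent_symm.1 hu.1⟩)
  have h3 : ¬ 3 ∣ Nat.card R := by
    intro h
    haveI : Fact (Nat.Prime 3) := ⟨Nat.prime_three⟩
    obtain ⟨⟨f, hf⟩, hfo⟩ := exists_prime_orderOf_dvd_card' (G := R) 3 h
    rw [Subgroup.orderOf_mk] at hfo
    have h66 := D.env.facts.three_eleven f D.pick.x hfo D.pick.ord_x (mem_cent.1 hf.2)
    set W := D.S ⊓ centralizer ({f} : Set G) with hW
    have hd1 := (card_dvd_of_le (show W ≤ centralizer ({f} : Set G) ⊓ D.CX from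
      fun w hw => ⟨hw.2, D.shape.le_cent hw.1⟩)).trans h66
    have hd2 := card_dvd_of_le (inf_le_left : W ≤ D.S)
    rw [D.shape.card_S] at hd2
    have hd3 : Nat.card W ≤ 11 := Nat.le_of_dvd (by norm_num)
      ((Nat.dvd_gcd hd1 hd2).trans (by norm_num))
    have heq : D.X = W := eq_of_le_of_card_ge
      (zpowers_le.2 ⟨D.shape.mem_x, mem_cent_symm.1 hf.2⟩) (by rw [D.card_X]; exact hd3)
    exact hsX (heq.ge ⟨hs, mem_cent_symm.1 hf.1⟩)
  obtain ⟨d1, d2, hd1, hd2, he⟩ := Nat.dvd_mul.1 hd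
  have h1 : d1 = 1 := by
    have : ∀ d ∈ Nat.divisors 24, ¬ 2 ∣ d → ¬ 3 ∣ d → d = 1 := by decide
    exact this d1 (Nat.mem_divisors.2 ⟨hd1, by norm_num⟩) (fun h => h2 (he ▸ h.mul_right _))
      (fun h => h3 (he ▸ h.mul_right _))
  rw [h1, one_mul] at he
  obtain ⟨i, -, hi⟩ := (Nat.dvd_prime_pow (by norm_num : Nat.Prime 11)).1
    (show d2 ∣ 11 ^ 3 by norm_num; exact hd2)
  exact IsPGroup.of_card (n := i) (by rw [← he, hi])

/-- In the normaliser, at most one involution more. -/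
theorem card_cent_NX_cases {s : G} (hs : s ∈ D.S) (hsX : s ∉ D.X) :
    Nat.card ↥(D.NX ⊓ centralizer ({s} : Set G)) =
        Nat.card ↥(D.S ⊓ centralizer ({s} : Set G)) ∨
      Nat.card ↥(D.NX ⊓ centralizer ({s} : Set G)) =
        2 * Nat.card ↥(D.S ⊓ centralizer ({s} : Set G)) := by
  obtain ⟨m, hm, hc⟩ := D.index_dvd (R := D.NX ⊓ centralizer ({s} : Set G)) inf_le_left
  have heq : D.NX ⊓ centralizer ({s} : Set G) ⊓ D.CX = D.S ⊓ centralizer ({s} : Set G) :=
    le_antisymm (fun g hg => ⟨D.cent_inf_CX_le hs hsX ⟨hg.1.2, hg.2⟩, hg.1.2⟩)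
      fun g hg => ⟨⟨D.CX_le_NX (D.shape.le_cent hg.1), hg.2⟩, D.shape.le_cent hg.1⟩
  rw [heq] at hc
  have h5 : ¬ 5 ∣ m := by
    intro h
    haveI : Fact (Nat.Prime 5) := ⟨by norm_num⟩
    obtain ⟨⟨f, hf⟩, hfo⟩ := exists_prime_orderOf_dvd_card'
      (G := ↥(D.NX ⊓ centralizer ({s} : Set G))) 5 (hc ▸ h.mul_left _)
    rw [Subgroup.orderOf_mk] at hfo
    refine D.env.facts.not_eleven f (Or.inl hfo) ?_
    rw [← D.orderOf_S hs fun h => hsX (h ▸ one_mem _)]
    exact Subgroup.orderOf_dvd_natCard _ (mem_cent_symm.1 hf.2)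
  have : ∀ m ∈ Nat.divisors 10, ¬ 5 ∣ m → m = 1 ∨ m = 2 := by decide
  rcases this m (Nat.mem_divisors.2 ⟨hm, by norm_num⟩) h5 with rfl | rfl
  · exact Or.inl (by rw [hc, mul_one])
  · exact Or.inr (by rw [hc, mul_comm])

/-- An involution of the second class does not commute with an element of `X`. -/
theorem not_second {u : G} (hu : IsConj t u) {q : G} (hq : q ∈ D.X) (hq1 : q ≠ 1) :
    q ∉ centralizer ({u} : Set G) := by
  intro h
  have huC : u ∈ D.CX := D.cent_of_X hq hq1 ▸ mem_cent_symm.1 h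
  obtain ⟨c, hc⟩ := isConj_iff.1 hu
  have huo : orderOf u = 2 := by rw [← hc, orderOf_conj', D.env.ord_t]
  exact D.env.not_conj ((D.shape.isConj u huC huo).trans hu.symm)

/-- An element of `S` outside `X` commuting with an involution of the second class. -/
theorem exists_second : ∃ y ∈ D.S, y ∉ D.X ∧ ∃ u : G, orderOf u = 2 ∧ IsConj t u ∧
    y ∈ centralizer ({u} : Set G) := by
  haveI : Fact (Nat.Prime 11) := ⟨by norm_num⟩
  obtain ⟨⟨y, hy⟩, hyo⟩ := exists_prime_orderOf_dvd_card' (G := centralizer ({t} : Set G)) 11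
    (by rw [D.env.card_ct]; norm_num [tOrder])
  rw [Subgroup.orderOf_mk] at hyo
  obtain ⟨T, hT⟩ := (IsPGroup.of_card (n := 1) (show Nat.card (zpowers y) = 11 ^ 1 by
    rw [Nat.card_zpowers, hyo, pow_one])).exists_le_sylow
  have hS : Nat.card D.S = 11 ^ (Nat.card G).factorization 11 := by
    rw [D.shape.card_S, D.env.facts.card,
      show bigOrder = 11 ^ 3 * 65195770883604480 by norm_num [bigOrder],
      Nat.factorization_mul (by norm_num) (by norm_num), Finsupp.add_apply,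
      Nat.Prime.factorization_pow (by norm_num), Finsupp.single_eq_same,
      Nat.factorization_eq_zero_of_not_dvd (by norm_num)]
    norm_num
  obtain ⟨g, hg⟩ := MulAction.exists_smul_eq G T (Sylow.ofCard D.S hS)
  have hgy : g * y * g⁻¹ ∈ D.S := by
    have h : (T : Subgroup G).map (MulAut.conj g).toMonoidHom = D.S :=
      congrArg (fun P : Sylow 11 G => (P : Subgroup G)) hg
    exact h.le ⟨y, hT (mem_zpowers y), rfl⟩
  have hu : orderOf (g * t * g⁻¹) = 2 := by rw [orderOf_conj', D.env.ord_t]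
  have htu : IsConj t (g * t * g⁻¹) := isConj_iff.2 ⟨g, rfl⟩
  have hyu : g * y * g⁻¹ ∈ centralizer ({g * t * g⁻¹} : Set G) := by
    rw [mem_cent_conj, show g⁻¹ * (g * y * g⁻¹) * g = y by group]; exact hy
  refine ⟨_, hgy, fun h => D.not_second htu h ?_ hyu, _, hu, htu, hyu⟩
  exact ne_one_of_orderOf ((orderOf_conj' g y).trans hyo) (by norm_num)

end Setup

end CfsgLib.J4Type.Eleven
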