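import Cfsg.Agent.Lib.J4Type.Eleven.Local.Norm

/-!
The involutions of the normaliser outside the centraliser of the element of order eleven.
-/

set_option autoImplicit false
set_option linter.style.haveILetI false
set_option linter.unusedSectionVars false

namespace CfsgLib.J4Type.Eleven

open Subgroup CfsgLib.J4Type.BigPrimes

namespace Setup

variable {G : Type*} [Group G] [Finite G] {z t : G} (D : Setup z t)

/-- An involution centralises at most eleven elements of `S`. -/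
theorem card_S_cent_dvd {u : G} (hu : orderOf u = 2) :
    Nat.card ↥(D.S ⊓ centralizer ({u} : Set G)) ∣ 11 := by
  have h1 := card_dvd_of_le (inf_le_left : D.S ⊓ centralizer ({u} : Set G) ≤ D.S)
  rw [D.shape.card_S] at h1
  have h2 := card_dvd_of_le (inf_le_right : D.S ⊓ centralizer ({u} : Set G) ≤ _)
  rcases D.env.two_classes u hu with h | h <;> obtain ⟨c, rfl⟩ := isConj_iff.1 h <;>
    rw [card_cent_conj] at h2
  · rw [D.env.card_cz] at h2
    exact (Nat.dvd_gcd h1 h2).trans (by norm_num [zOrder])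
  · rw [D.env.card_ct] at h2
    exact (Nat.dvd_gcd h1 h2).trans (by norm_num [tOrder])

/-- Such an involution inverts `X`. -/
theorem inverts {u : G} (hu : orderOf u = 2) (huN : u ∈ D.NX) (huC : u ∉ D.CX) {q : G}
    (hq : q ∈ D.X) : u * q * u⁻¹ = q⁻¹ := by
  have hm : u * q * u⁻¹ ∈ D.X := D.conj_mem_X huN hq
  obtain ⟨i, hi⟩ := mem_zpowers_iff.1 hm
  obtain ⟨j, hj⟩ := mem_zpowers_iff.1 hq
  have hc : q * (u * q * u⁻¹) = (u * q * u⁻¹) * q := by rw [← hi, ← hj, ← zpow_add, ← zpow_add, add_comm]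
  set w := q * (u * q * u⁻¹) with hw
  have hwu : u * w * u⁻¹ = w := by
    calc u * w * u⁻¹ = (u * q * u⁻¹) * ((u * u) * q * (u * u)⁻¹) := by rw [hw]; group
      _ = (u * q * u⁻¹) * q := by rw [sq_eq_one_of_orderOf hu]; group
      _ = w := hc.symm
  by_contra hne
  have hw1 : w ≠ 1 := fun h => hne (eq_inv_of_mul_eq_one_right (hw ▸ h))
  refine huC ?_
  rw [← D.cent_of_X (mul_mem hq hm) hw1]
  exact mem_cent.2 (mul_inv_eq_iff_eq_mul.1 hwu)

/-- Such an involution commutes with an `S`-conjugate of `z`. -/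
theorem exists_comm_conj {u : G} (hu : orderOf u = 2) (huN : u ∈ D.NX) :
    ∃ s ∈ D.S, u * (s * z * s⁻¹) = s * z * s⁻¹ * u := by
  obtain ⟨v, ⟨s, hs, rfl⟩, hv⟩ := exists_fixed_odd (sq_eq_one_of_orderOf hu) (T := orbOf D.S z)
    (by rw [D.shape.class_card]; decide) (fun v hv => by
      obtain ⟨s, hs, rfl⟩ := hv
      have hzC : z ∈ D.CX := mem_cent_symm.1 D.pick.mem_x
      have hm : s * z * s⁻¹ ∈ D.CX := mul_mem (mul_mem (D.shape.le_cent hs) hzC)
        (inv_mem (D.shape.le_cent hs))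
      exact D.shape.class_eq _ (D.conj_mem_CX huN hm)
        (by rw [orderOf_conj', orderOf_conj', D.env.ord_z]))
  exact ⟨s, hs, hv⟩

/-- Such an involution centralises exactly eleven elements of `S`. -/
theorem card_fix_outer {u : G} (hu : orderOf u = 2) (huN : u ∈ D.NX) (huC : u ∉ D.CX) :
    Nat.card ↥(D.S ⊓ centralizer ({u} : Set G)) = 11 := by
  rcases (Nat.dvd_prime (by norm_num : Nat.Prime 11)).1 (D.card_S_cent_dvd hu) with h | h
  swap
  · exact h
  exfalso
  have htriv : ∀ s ∈ D.S, u * s = s * u → s = 1 := fun s hs he =>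
    mem_bot.1 ((Subgroup.card_eq_one.1 h).le ⟨hs, mem_cent.2 he.symm⟩)
  have huS : ∀ s ∈ D.S, u * s * u⁻¹ ∈ D.S := fun s hs =>
    (mem_normalizer_iff.1 (D.NX_le_NS huN) s).1 hs
  have huu : u * u = 1 := sq_eq_one_of_orderOf hu
  let f : D.S → D.S := fun s => ⟨u * (s : G) * u⁻¹ * (s : G)⁻¹, mul_mem (huS s s.2) (inv_mem s.2)⟩
  have hf : Function.Injective f := by
    intro a b hab
    have h' : u * (a : G) * u⁻¹ * (a : G)⁻¹ = u * (b : G) * u⁻¹ * (b : G)⁻¹ := congrArg Subtype.val hab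
    refine Subtype.ext (inv_mul_eq_one.1 (htriv _ (mul_mem (inv_mem b.2) a.2) ?_)).symm
    calc u * ((b : G)⁻¹ * a) = (u * (b : G) * u⁻¹)⁻¹ * (u * (a : G) * u⁻¹ * (a : G)⁻¹) * a * u := by
          group
      _ = (u * (b : G) * u⁻¹)⁻¹ * (u * (b : G) * u⁻¹ * (b : G)⁻¹) * a * u := by rw [h']
      _ = (b : G)⁻¹ * a * u := by group
  have hinv : ∀ s ∈ D.S, u * s * u⁻¹ = s⁻¹ := by
    intro s hs
    obtain ⟨r, hr⟩ := (Finite.injective_iff_surjective.1 hf) ⟨s, hs⟩
    have hr' : u * (r : G) * u⁻¹ * (r : G)⁻¹ = s := congrArg Subtype.val hr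
    rw [← hr']
    calc u * (u * (r : G) * u⁻¹ * (r : G)⁻¹) * u⁻¹
        = (u * u) * r * (u⁻¹ * (r : G)⁻¹ * u⁻¹) := by group
      _ = (r : G) * (u⁻¹ * (r : G)⁻¹ * u⁻¹) := by rw [huu, one_mul]
      _ = (r : G) * (u * (r : G)⁻¹ * u⁻¹) := by rw [inv_eq_self_of_orderOf hu]
      _ = _ := by group
  obtain ⟨s, hs, hv⟩ := D.exists_comm_conj hu huN
  set v := s * z * s⁻¹ with hvdef
  have hvo : orderOf v = 2 := by rw [hvdef, orderOf_conj', D.env.ord_z]
  have hvC : v ∈ D.CX := mul_mem (mul_mem (D.shape.le_cent hs) (mem_cent_symm.1 D.pick.mem_x))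
    (inv_mem (D.shape.le_cent hs))
  obtain ⟨hcard, -⟩ := decomp D.pick.ord_x hvo D.shape.le_cent (D.shape.cent_le_norm hvC)
    D.shape.mem_x hvC (D.shape.fix v hvC hvo)
  rw [D.shape.card_S] at hcard
  have hne : u * v ≠ 1 := fun e => huC (by
    rw [eq_inv_of_mul_eq_one_left e]; exact inv_mem hvC)
  have hord : orderOf (u * v) = 2 := orderOf_eq_prime (by
    rw [pow_two]
    calc u * v * (u * v) = u * (v * u) * v := by group
      _ = u * (u * v) * v := by rw [← hv]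
      _ = (u * u) * (v * v) := by group
      _ = 1 := by rw [huu, sq_eq_one_of_orderOf hvo, one_mul]) hne
  have hsub : invSet D.S v ⊆ ((D.S ⊓ centralizer ({u * v} : Set G) : Subgroup G) : Set G) := by
    intro p hp
    refine ⟨hp.1, mem_cent.2 (mul_inv_eq_iff_eq_mul.1 ?_).symm⟩
    calc u * v * p * (u * v)⁻¹ = u * (v * p * v⁻¹) * u⁻¹ := by group
      _ = (u * p * u⁻¹)⁻¹ := by rw [hp.2]; group
      _ = p := by rw [hinv p hp.1, inv_inv]
  have hle := Set.ncard_le_ncard hsub (Set.toFinite _)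
  rw [← Nat.card_coe_set_eq (α := G) ((D.S ⊓ centralizer ({u * v} : Set G) : Subgroup G) : Set G)]
    at hle
  have h11 : Nat.card ↥(D.S ⊓ centralizer ({u * v} : Set G)) ≤ 11 :=
    Nat.le_of_dvd (by norm_num) (D.card_S_cent_dvd hord)
  simp only [SetLike.coe_sort_coe] at hle
  omega

/-- An element outside `X` with a centraliser in the normaliser twice that in `S` commutes with an
involution outside the centraliser of `x`. -/
theorem exists_outer {s : G} (hs : s ∈ D.S) (hsX : s ∉ D.X)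
    (h : 2 ∣ Nat.card ↥(D.NX ⊓ centralizer ({s} : Set G))) :
    ∃ u : G, orderOf u = 2 ∧ u ∈ D.NX ∧ u ∉ D.CX ∧ s ∈ centralizer ({u} : Set G) := by
  haveI : Fact (Nat.Prime 2) := ⟨Nat.prime_two⟩
  obtain ⟨⟨u, hu⟩, huo⟩ := exists_prime_orderOf_dvd_card' (G := ↥(D.NX ⊓ centralizer ({s} : Set G))) 2 h
  rw [Subgroup.orderOf_mk] at huo
  exact ⟨u, huo, hu.1, fun hC => hsX ((D.shape.fix u hC huo).le ⟨hs, mem_cent_symm.1 hu.2⟩),
    mem_cent_symm.1 hu.2⟩

end Setup

end CfsgLib.J4Type.Eleven
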